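import Cfsg.Agent.Lib.CompLen.MinNormal

/-!
A subgroup of a product of non-abelian simple factors meeting no factor and projecting onto every factor has
order at most the square root of the order of the product.
-/

set_option autoImplicit false

namespace Cfsg.Agent.CompLen

universe u

variable {G : Type u} [Group G] {N : Subgroup G} {X : Finset (Subgroup G)}

open scoped Classical in
/-- The join of all factors except `A`. -/
noncomputable def coFactor (X : Finset (Subgroup G)) (A : Subgroup G) : Subgroup G :=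
  (X.erase A).sup id

theorem le_coFactor {A B : Subgroup G} (hB : B ∈ X) (hne : B ≠ A) : B ≤ coFactor X A := by
  classical
  exact Finset.le_sup (f := id) (Finset.mem_erase.mpr ⟨hne, hB⟩)

theorem sup_le_coFactor {A : Subgroup G} {S : Finset (Subgroup G)} (hS : S ⊆ X) (hAS : A ∉ S) :
    S.sup id ≤ coFactor X A :=
  Finset.sup_le fun _ hB => le_coFactor (hS hB) fun e => hAS (e ▸ hB)

theorem IsFactorSet.sup_coFactor (h : IsFactorSet N X) {A : Subgroup G} (hA : A ∈ X) :
    A ⊔ coFactor X A = N := by
  classical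
  conv_rhs => rw [← h.sup_eq, ← Finset.insert_erase hA, Finset.sup_insert]
  rfl

theorem IsFactorSet.coFactor_le (h : IsFactorSet N X) {A : Subgroup G} (hA : A ∈ X) :
    coFactor X A ≤ N := le_sup_right.trans_eq (h.sup_coFactor hA)

theorem IsFactorSet.conjInv_coFactor (h : IsFactorSet N X) (A : Subgroup G) :
    ConjInv N (coFactor X A) := by
  classical
  exact ConjInv.finsetSup _ _ fun B hB => h.inv B (Finset.mem_of_mem_erase hB)

theorem IsFactorSet.map_coFactor_le (h : IsFactorSet N X) (g : G) (A : Subgroup G) :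
    (coFactor X A).map (MulAut.conj g).toMonoidHom ≤
      coFactor X (A.map (MulAut.conj g).toMonoidHom) := by
  classical
  rw [Subgroup.map_le_iff_le_comap]
  refine Finset.sup_le fun B hB => ?_
  rw [← Subgroup.map_le_iff_le_comap]
  refine le_coFactor (h.conj_mem g B (Finset.mem_of_mem_erase hB)) fun e => Finset.ne_of_mem_erase hB ?_
  exact Subgroup.map_injective (MulAut.conj g).injective e

variable [N.Normal] (hmin : ∀ A : Subgroup G, A.Normal → A ≤ N → A ≠ ⊥ → A = N) (hna : ¬ Comm N N)
include hmin hna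

theorem IsFactorSet.inf_coFactor (h : IsFactorSet N X) {A : Subgroup G} (hA : A ∈ X) :
    A ⊓ coFactor X A = ⊥ := by
  classical
  exact h.inf_sup_eq_bot hmin hna hA (Finset.erase_subset A X) (Finset.notMem_erase A X)

/-- Projection of `N` onto the factor `A`. -/
theorem IsFactorSet.exists_proj (h : IsFactorSet N X) {A : Subgroup G} (hA : A ∈ X) :
    ∃ π : N →* A, (∀ a : A, π ⟨a, h.le A hA a.2⟩ = a) ∧
      (∀ x : N, π x = 1 ↔ (x : G) ∈ coFactor X A) := by
  classical
  have hc : Comm A (coFactor X A) := h.comm_sup hA (Finset.erase_subset A X) (Finset.notMem_erase A X)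
  have hd := h.inf_coFactor hmin hna hA
  let e := (prodEquiv hc hd).trans (MulEquiv.subgroupCongr (h.sup_coFactor hA))
  have he : ∀ a b, (e (a, b) : G) = (a : G) * b := fun a b => prodEquiv_coe hc hd a b
  refine ⟨(MonoidHom.fst _ _).comp e.symm.toMonoidHom, fun a => ?_, fun x => ?_⟩
  · have : e (a, 1) = ⟨a, h.le A hA a.2⟩ := Subtype.ext (by rw [he]; simp)
    show (e.symm _).1 = a
    rw [← this, MulEquiv.symm_apply_apply]
  · have hx : (x : G) = ((e.symm x).1 : G) * (e.symm x).2 := by
      rw [← he, Prod.mk.eta, MulEquiv.apply_symm_apply]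
    show (e.symm x).1 = 1 ↔ _
    constructor
    · intro h1
      rw [hx, h1, Subgroup.coe_one, one_mul]
      exact (e.symm x).2.2
    · intro h1
      have : ((e.symm x).1 : G) ∈ A ⊓ coFactor X A := by
        refine ⟨(e.symm x).1.2, ?_⟩
        rw [eq_mul_inv_of_mul_eq hx.symm]
        exact (coFactor X A).mul_mem h1 ((coFactor X A).inv_mem (e.symm x).2.2)
      rw [hd, Subgroup.mem_bot] at this
      exact Subtype.ext this

theorem IsFactorSet.inf_coFactor_sup (h : IsFactorSet N X) {A : Subgroup G}
    {S : Finset (Subgroup G)} (hA : A ∈ X) (hS : S ⊆ X) {x : G} (hx : x ∈ S.sup id)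
    (hx' : x ∈ coFactor X A) [DecidableEq (Subgroup G)] : x ∈ (S.erase A).sup id := by
  by_cases hAS : A ∈ S
  · rw [← Finset.insert_erase hAS, Finset.sup_insert, id_eq] at hx
    have hle : (S.erase A).sup id ≤ coFactor X A :=
      sup_le_coFactor ((Finset.erase_subset A S).trans hS) (Finset.notMem_erase A S)
    have hc := h.comm_sup hA ((Finset.erase_subset A S).trans hS) (Finset.notMem_erase A S)
    have hd : A ⊓ (S.erase A).sup id = ⊥ :=
      h.inf_sup_eq_bot hmin hna hA ((Finset.erase_subset A S).trans hS) (Finset.notMem_erase A S)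
    obtain ⟨⟨a, b⟩, hab⟩ := (prodEquiv hc hd).surjective ⟨x, hx⟩
    have hxab : (a : G) * (b : G) = x := by rw [← prodEquiv_coe hc hd, hab]
    have ha : (a : G) ∈ A ⊓ coFactor X A := by
      refine ⟨a.2, ?_⟩
      rw [eq_mul_inv_of_mul_eq hxab]
      exact (coFactor X A).mul_mem hx' ((coFactor X A).inv_mem (hle b.2))
    rw [h.inf_coFactor hmin hna hA, Subgroup.mem_bot] at ha
    rw [← hxab, ha, one_mul]
    exact b.2
  · rwa [Finset.erase_eq_of_notMem hAS]

theorem IsFactorSet.card_sq_le [Finite G] (h : IsFactorSet N X) {U : Subgroup G} (hU : U ≤ N)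
    (hfull : ∀ A ∈ X, U ⊔ coFactor X A = N) (hbot : ∀ A ∈ X, A ⊓ U = ⊥) {T : Subgroup G}
    (hT : T ∈ X) :
    Nat.card U ^ 2 ≤ Nat.card T ^ X.card := by
  classical
  suffices key : ∀ S : Finset (Subgroup G), S ⊆ X →
      Nat.card ↥(U ⊓ S.sup id) ^ 2 ≤ Nat.card T ^ S.card by
    have := key X Finset.Subset.rfl
    rwa [h.sup_eq, inf_eq_left.mpr hU] at this
  intro S
  induction S using Finset.strongInduction with
  | _ S ih =>
    intro hS
    by_cases h0 : U ⊓ S.sup id = ⊥
    · rw [h0]
      simpa using Nat.one_le_pow _ _ Nat.card_pos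
    · obtain ⟨R, ⟨hRS, hR0⟩, hR⟩ : ∃ R, Minimal (fun R => R ⊆ S ∧ U ⊓ R.sup id ≠ ⊥) R :=
        Set.Finite.exists_minimal ((Finset.finite_toSet S.powerset).subset
          (fun R hR => Finset.mem_powerset.mpr hR.1)) ⟨S, Finset.Subset.rfl, h0⟩
      have hcard : 1 < R.card := by
        by_contra hc
        rcases Nat.lt_or_ge R.card 1 with h1 | h1
        · rw [Finset.card_eq_zero.mp (by omega : R.card = 0)] at hR0
          exact hR0 (by simp)
        · obtain ⟨A, rfl⟩ := Finset.card_eq_one.mp (by omega : R.card = 1)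
          refine hR0 ?_
          rw [Finset.sup_singleton, id_eq, inf_comm]
          exact hbot A (hS (hRS (Finset.mem_singleton_self A)))
      obtain ⟨A, hAR, B, hBR, hAB⟩ := Finset.one_lt_card.mp hcard
      have hA : A ∈ X := hS (hRS hAR)
      have hB : B ∈ X := hS (hRS hBR)
      have hmin' : ∀ C ∈ R, U ⊓ (R.erase C).sup id = ⊥ := by
        intro C hC
        by_contra hne
        exact Finset.notMem_erase C R
          (hR ⟨(Finset.erase_subset C R).trans hRS, hne⟩ (Finset.erase_subset C R) hC)
      have hWi : ConjInv U (U ⊓ R.sup id) := (conjInv_self U).inf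
        ((ConjInv.finsetSup R id fun C hC => h.inv C (hS (hRS hC))).mono hU)
      have hker : ∀ u : G, u ∈ U → u ∈ coFactor X A → u ∈ coFactor X B := by
        intro u hu huA
        have huW : ∀ v ∈ U ⊓ R.sup id, u * v = v * u := by
          intro v hv
          have h1 : u * v * u⁻¹ * v⁻¹ ∈ U ⊓ R.sup id :=
            (U ⊓ R.sup id).mul_mem (hWi u hu v hv) ((U ⊓ R.sup id).inv_mem hv)
          have h2 : u * v * u⁻¹ * v⁻¹ ∈ coFactor X A := by
            have := (coFactor X A).mul_mem huA
              (h.conjInv_coFactor A v (hU hv.1) u⁻¹ ((coFactor X A).inv_mem huA))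
            simpa [mul_assoc] using this
          have h3 : u * v * u⁻¹ * v⁻¹ ∈ U ⊓ (R.erase A).sup id :=
            ⟨h1.1, h.inf_coFactor_sup hmin hna hA (hRS.trans hS) h1.2 h2⟩
          rw [hmin' A hAR, Subgroup.mem_bot] at h3
          calc u * v = (u * v * u⁻¹ * v⁻¹) * (v * u) := by simp [mul_assoc]
            _ = v * u := by rw [h3, one_mul]
        obtain ⟨π, hπid, hπker⟩ := h.exists_proj hmin hna hB
        rw [← Subtype.coe_mk u (hU hu), ← hπker]
        have hsU : (U.subgroupOf N).map π = ⊤ := by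
          have h1 : ((U ⊔ coFactor X B).subgroupOf N).map π = ⊤ := by
            rw [hfull B hB, Subgroup.subgroupOf_self, Subgroup.map_top_of_surjective π]
            exact fun a => ⟨_, hπid a⟩
          rw [Subgroup.subgroupOf_sup hU (h.coFactor_le hB), Subgroup.map_sup] at h1
          rwa [show ((coFactor X B).subgroupOf N).map π = ⊥ from ?_, sup_bot_eq] at h1
          rw [Subgroup.map_eq_bot_iff]
          exact fun x hx => (hπker x).mpr hx
        let W : Subgroup B := ((U ⊓ R.sup id).subgroupOf N).map π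
        have hWn : W.Normal := by
          refine ⟨fun w hw b => ?_⟩
          obtain ⟨x, hx, rfl⟩ := hw
          obtain ⟨y, hy, rfl⟩ : b ∈ (U.subgroupOf N).map π := hsU ▸ Subgroup.mem_top b
          exact ⟨y * x * y⁻¹, hWi (y : G) hy (x : G) hx, by simp⟩
        have hW : W = ⊤ := by
          have := h.isSimpleGroup hB
          refine hWn.eq_bot_or_eq_top.resolve_left fun hb => hR0 ?_
          rw [eq_bot_iff]
          intro v hv
          have : π ⟨v, hU hv.1⟩ = 1 := by
            rw [← Subgroup.mem_bot, ← hb]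
            exact ⟨⟨v, hU hv.1⟩, hv, rfl⟩
          rw [← hmin' B hBR]
          exact ⟨hv.1, h.inf_coFactor_sup hmin hna hB (hRS.trans hS) hv.2 ((hπker _).mp this)⟩
        have hcen : ∀ y ∈ B, (π ⟨u, hU hu⟩ : G) * y = y * (π ⟨u, hU hu⟩ : G) := by
          intro y hy
          obtain ⟨v, hv, hvy⟩ : (⟨y, hy⟩ : B) ∈ W := hW ▸ Subgroup.mem_top _
          have := congrArg π (Subtype.ext (huW v hv) : (⟨u, hU hu⟩ : N) * v = v * ⟨u, hU hu⟩)
          rw [map_mul, map_mul, hvy] at this
          exact congrArg Subtype.val this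
        exact Subtype.ext (h.center_eq_bot hmin hna hB (π ⟨u, hU hu⟩).2 hcen)
      obtain ⟨π, -, hπker⟩ := h.exists_proj hmin hna hA
      let V : Subgroup N := (U ⊓ S.sup id).subgroupOf N
      have hVN : U ⊓ S.sup id ≤ N := inf_le_left.trans hU
      let ρ : V →* A := π.comp V.subtype
      have hρ : Nat.card ρ.ker ≤ Nat.card ↥(U ⊓ ((S.erase A).erase B).sup id) := by
        refine Nat.card_le_card_of_injective (fun x => ⟨((x.1 : N) : G), ?_⟩) ?_
        · have hA' : ((x.1 : N) : G) ∈ coFactor X A := (hπker _).mp x.2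
          have hu : ((x.1 : N) : G) ∈ U := x.1.2.1
          have h1 := h.inf_coFactor_sup hmin hna hA hS x.1.2.2 hA'
          exact ⟨hu, h.inf_coFactor_sup hmin hna hB ((Finset.erase_subset A S).trans hS) h1
            (hker _ hu hA')⟩
        · intro x y hxy
          have h' := congrArg (fun z : ↥(U ⊓ ((S.erase A).erase B).sup id) => (z : G)) hxy
          exact Subtype.ext (Subtype.ext (Subtype.ext h'))
      have hρr : Nat.card ρ.range ≤ Nat.card T := by
        rw [← h.card_eq hA hT]
        exact Nat.card_le_card_of_injective _ Subtype.val_injective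
      have hsub : (S.erase A).erase B ⊂ S :=
        lt_of_le_of_lt (Finset.erase_subset _ _) (Finset.erase_ssubset (hRS hAR))
      have hS2 : ((S.erase A).erase B).card + 2 = S.card := by
        rw [← Finset.card_erase_add_one (hRS hAR),
          ← Finset.card_erase_add_one (Finset.mem_erase.mpr ⟨hAB.symm, hRS hBR⟩)]
      have := ih _ hsub (((Finset.erase_subset _ _).trans (Finset.erase_subset _ _)).trans hS)
      have hV : Nat.card ↥(U ⊓ S.sup id) = Nat.card V :=
        (Nat.card_congr (Subgroup.subgroupOfEquivOfLe hVN).toEquiv).symm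
      calc Nat.card ↥(U ⊓ S.sup id) ^ 2
          = (Nat.card ρ.range * Nat.card ρ.ker) ^ 2 := by
            rw [hV, Subgroup.card_eq_card_quotient_mul_card_subgroup ρ.ker,
              Nat.card_congr (QuotientGroup.quotientKerEquivRange ρ).toEquiv]
        _ ≤ (Nat.card T * Nat.card ↥(U ⊓ ((S.erase A).erase B).sup id)) ^ 2 :=
            Nat.pow_le_pow_left (Nat.mul_le_mul hρr hρ) 2
        _ = Nat.card T ^ 2 * Nat.card ↥(U ⊓ ((S.erase A).erase B).sup id) ^ 2 := mul_pow _ _ _
        _ ≤ Nat.card T ^ 2 * Nat.card T ^ ((S.erase A).erase B).card :=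
            Nat.mul_le_mul_left _ this
        _ = Nat.card T ^ S.card := by rw [← pow_add, ← hS2, Nat.add_comm]

end Cfsg.Agent.CompLen
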