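import Mathlib

/-!
Maximal length of a strict subnormal series (composition length) of a finite group.
-/

set_option autoImplicit false

namespace Cfsg.Agent.CompLen

open ArithmeticFunction
open scoped ArithmeticFunction.Omega

universe u v

/-- `NChain K l`: there is a strictly increasing chain of length `l` from `⊥` to `K`, each term normal in
the next one. -/
inductive NChain {G : Type u} [Group G] : Subgroup G → ℕ → Prop
  | bot : NChain ⊥ 0
  | step {A B : Subgroup G} {l : ℕ} :
      NChain A l → A < B → (∀ b ∈ B, ∀ a ∈ A, b * a * b⁻¹ ∈ A) → NChain B (l + 1)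

variable {G : Type u} [Group G] {Q : Type v} [Group Q]

theorem conj_mem_of_normal_subgroupOf {A B : Subgroup G} (hn : (A.subgroupOf B).Normal)
    (h : A ≤ B) : ∀ b ∈ B, ∀ a ∈ A, b * a * b⁻¹ ∈ A := by
  intro b hb a ha
  have := hn.conj_mem ⟨a, h ha⟩ (by simpa [Subgroup.mem_subgroupOf] using ha) ⟨b, hb⟩
  simpa [Subgroup.mem_subgroupOf] using this

theorem nchain_of_fin {l : ℕ} (H : Fin (l + 1) → Subgroup G) (h0 : H 0 = ⊥)
    (hchain : ∀ i : Fin l, H i.castSucc < H i.succ ∧ ((H i.castSucc).subgroupOf (H i.succ)).Normal) :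
    NChain (H (Fin.last l)) l := by
  have key : ∀ i : Fin (l + 1), NChain (H i) (i : ℕ) := by
    intro i
    induction i using Fin.induction with
    | zero => rw [h0]; exact NChain.bot
    | succ i ih =>
      rw [Fin.val_succ]
      rw [Fin.val_castSucc] at ih
      exact ih.step (hchain i).1 (conj_mem_of_normal_subgroupOf (hchain i).2 (hchain i).1.le)
  simpa using key (Fin.last l)

theorem NChain.map {K : Subgroup G} {l : ℕ} (h : NChain K l) (f : G →* Q)
    (hf : Function.Injective f) : NChain (K.map f) l := by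
  induction h with
  | bot => rw [Subgroup.map_bot]; exact NChain.bot
  | step _ hlt hn ih =>
    refine ih.step (Subgroup.map_lt_map_iff_of_injective hf |>.mpr hlt) ?_
    rintro _ ⟨b, hb, rfl⟩ _ ⟨a, ha, rfl⟩
    exact ⟨_, hn b hb a ha, by simp⟩

theorem NChain.comap {K : Subgroup Q} {l : ℕ} (h : NChain K l) (f : G →* Q)
    (hf : Function.Injective f) (hK : K ≤ f.range) : NChain (K.comap f) l := by
  induction h with
  | bot => rw [MonoidHom.comap_bot, (MonoidHom.ker_eq_bot_iff f).mpr hf]; exact NChain.bot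
  | @step A B l _ hlt hn ih =>
    refine (ih (hlt.le.trans hK)).step ?_ ?_
    · refine lt_of_le_of_ne (Subgroup.comap_mono hlt.le) fun e => hlt.ne ?_
      rw [← Subgroup.map_comap_eq_self (hlt.le.trans hK), e, Subgroup.map_comap_eq_self hK]
    · intro b hb a ha
      simpa using hn _ hb _ ha

theorem NChain.le_cardFactors [Finite G] {K : Subgroup G} {l : ℕ} (h : NChain K l) :
    l ≤ Ω (Nat.card K) := by
  induction h with
  | bot => simp
  | @step A B l _ hlt _ ih =>
    obtain ⟨c, hc⟩ := Subgroup.card_dvd_of_le hlt.le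
    have hB : Nat.card B ≠ 0 := Nat.card_pos.ne'
    have hc0 : c ≠ 0 := fun e => hB (by rw [hc, e, mul_zero])
    have hc1 : c ≠ 1 := by
      rintro rfl
      exact hlt.ne (Subgroup.eq_of_le_of_card_ge hlt.le (by omega))
    rw [hc, cardFactors_mul Nat.card_pos.ne' hc0]
    have : 0 < Ω c := cardFactors_pos_iff_one_lt.mpr (by omega)
    omega

theorem two_pow_cardFactors_le {n : ℕ} (hn : n ≠ 0) : 2 ^ Ω n ≤ n := by
  rw [cardFactors_apply]
  calc 2 ^ n.primeFactorsList.length ≤ n.primeFactorsList.prod := by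
        refine List.pow_card_le_prod _ _ fun x hx => (Nat.prime_of_mem_primeFactorsList hx).two_le
    _ = n := Nat.prod_primeFactorsList hn

/-- The composition length of `G`. -/
noncomputable def clen (G : Type u) [Group G] : ℕ :=
  sSup {l | NChain (⊤ : Subgroup G) l}

theorem nchain_bddAbove [Finite G] (K : Subgroup G) : BddAbove {l | NChain K l} :=
  ⟨Ω (Nat.card K), fun _ h => NChain.le_cardFactors h⟩

theorem clen_spec [Finite G] : NChain (⊤ : Subgroup G) (clen G) := by
  refine Nat.sSup_mem ?_ (nchain_bddAbove _)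
  rcases eq_or_ne (⊥ : Subgroup G) ⊤ with h | h
  · exact ⟨0, h ▸ NChain.bot⟩
  · exact ⟨1, NChain.bot.step (lt_of_le_of_ne bot_le h) (by simp)⟩

theorem NChain.le_clen [Finite G] {l : ℕ} (h : NChain (⊤ : Subgroup G) l) : l ≤ clen G :=
  le_csSup (nchain_bddAbove _) h

theorem NChain.le_clen_coe [Finite G] {K : Subgroup G} {l : ℕ} (h : NChain K l) : l ≤ clen K := by
  have := h.comap K.subtype K.subtype_injective (by simp)
  rw [← Subgroup.subgroupOf, Subgroup.subgroupOf_self] at this
  exact this.le_clen

theorem nchain_clen_coe [Finite G] (K : Subgroup G) : NChain K (clen K) := by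
  have := (clen_spec (G := K)).map K.subtype K.subtype_injective
  rwa [← MonoidHom.range_eq_map, Subgroup.range_subtype] at this

theorem clen_le_cardFactors [Finite G] : clen G ≤ Ω (Nat.card G) := by
  simpa using (clen_spec (G := G)).le_cardFactors

theorem two_pow_clen_le [Finite G] : 2 ^ clen G ≤ Nat.card G :=
  (Nat.pow_le_pow_right two_pos clen_le_cardFactors).trans (two_pow_cardFactors_le Nat.card_pos.ne')

theorem NChain.extend {A B : Subgroup G} {l : ℕ} (h : NChain A l) (hle : A ≤ B)
    (hn : ∀ b ∈ B, ∀ a ∈ A, b * a * b⁻¹ ∈ A) :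
    ∃ l', l ≤ l' ∧ NChain B l' ∧ (A ≠ B → l < l') := by
  rcases eq_or_lt_of_le hle with rfl | hlt
  · exact ⟨l, le_rfl, h, fun hh => absurd rfl hh⟩
  · exact ⟨l + 1, by omega, h.step hlt hn, fun _ => by omega⟩

theorem NChain.split {K : Subgroup G} {l : ℕ} (h : NChain K l) (f : G →* Q) :
    ∃ a b, l ≤ a + b ∧ NChain (K ⊓ f.ker) a ∧ NChain (K.map f) b := by
  induction h with
  | bot => exact ⟨0, 0, le_rfl, by simpa using NChain.bot, by simpa using NChain.bot⟩
  | @step A B l _ hlt hn ih =>
    obtain ⟨a, b, hab, ha, hb⟩ := ih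
    obtain ⟨a', haa, ha', ha''⟩ := ha.extend (B := B ⊓ f.ker) (inf_le_inf_right _ hlt.le)
      (fun x hx y hy => ⟨hn x hx.1 y hy.1, (MonoidHom.normal_ker f).conj_mem y hy.2 x⟩)
    obtain ⟨b', hbb, hb', hb''⟩ := hb.extend (B := B.map f) (Subgroup.map_mono hlt.le)
      (by rintro _ ⟨x, hx, rfl⟩ _ ⟨y, hy, rfl⟩; exact ⟨_, hn x hx y hy, by simp⟩)
    refine ⟨a', b', ?_, ha', hb'⟩
    rcases eq_or_ne (A ⊓ f.ker) (B ⊓ f.ker) with e1 | e1
    · rcases eq_or_ne (A.map f) (B.map f) with e2 | e2
      · exfalso
        refine hlt.ne (le_antisymm hlt.le fun x hx => ?_)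
        obtain ⟨y, hy, hyx⟩ : f x ∈ A.map f := e2 ▸ Subgroup.mem_map_of_mem f hx
        have hk : y⁻¹ * x ∈ B ⊓ f.ker :=
          ⟨B.mul_mem (B.inv_mem (hlt.le hy)) hx, by simp [MonoidHom.mem_ker, hyx]⟩
        rw [← e1] at hk
        simpa using A.mul_mem hy hk.1
      · have := hb'' e2; omega
    · have := ha'' e1; omega

theorem NChain.glue (f : G →* Q) {a : ℕ} (ha : NChain f.ker a) {S : Subgroup Q} {b : ℕ}
    (hb : NChain S b) (hS : S ≤ f.range) : NChain (S.comap f) (a + b) := by
  induction hb with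
  | bot => rw [MonoidHom.comap_bot]; exact ha
  | @step A B l _ hlt hn ih =>
    refine (ih (hlt.le.trans hS)).step ?_ ?_
    · refine lt_of_le_of_ne (Subgroup.comap_mono hlt.le) fun e => hlt.ne ?_
      rw [← Subgroup.map_comap_eq_self (hlt.le.trans hS), e, Subgroup.map_comap_eq_self hS]
    · intro b hb a ha'
      simpa using hn _ hb _ ha'

theorem clen_eq_ker_add_range [Finite G] (f : G →* Q) : clen G = clen f.ker + clen f.range := by
  have : Finite f.range := Finite.of_surjective f.rangeRestrict f.rangeRestrict_surjective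
  have hker : f.rangeRestrict.ker = f.ker := f.ker_rangeRestrict
  apply le_antisymm
  · obtain ⟨a, b, hab, ha, hb⟩ := (clen_spec (G := G)).split f.rangeRestrict
    rw [top_inf_eq, hker] at ha
    rw [← MonoidHom.range_eq_map, MonoidHom.range_eq_top.mpr f.rangeRestrict_surjective] at hb
    have := ha.le_clen_coe
    have := hb.le_clen
    omega
  · have h1 : NChain f.rangeRestrict.ker (clen f.ker) := hker.symm ▸ nchain_clen_coe f.ker
    have := NChain.glue f.rangeRestrict h1 (clen_spec (G := f.range))
      (by rw [MonoidHom.range_eq_top.mpr f.rangeRestrict_surjective])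
    rw [Subgroup.comap_top] at this
    exact this.le_clen

theorem clen_congr [Finite G] [Finite Q] (e : G ≃* Q) : clen G = clen Q := by
  apply le_antisymm
  · have := (clen_spec (G := G)).map e.toMonoidHom e.injective
    rw [← MonoidHom.range_eq_map, MonoidHom.range_eq_top.mpr e.surjective] at this
    exact this.le_clen
  · have := (clen_spec (G := Q)).map e.symm.toMonoidHom e.symm.injective
    rw [← MonoidHom.range_eq_map, MonoidHom.range_eq_top.mpr e.symm.surjective] at this
    exact this.le_clen

theorem clen_eq_zero [Subsingleton G] : clen G = 0 := by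
  have h := clen_le_cardFactors (G := G)
  rw [Nat.card_of_subsingleton (1 : G)] at h
  simpa using h

theorem one_le_clen [Finite G] [Nontrivial G] : 1 ≤ clen G :=
  (NChain.bot.step bot_lt_top (by simp)).le_clen

theorem clen_eq_one_of_isSimpleGroup [Finite G] [IsSimpleGroup G] : clen G = 1 := by
  refine le_antisymm ?_ one_le_clen
  have key : ∀ {K : Subgroup G} {l : ℕ}, NChain K l → (K = ⊥ → l = 0) ∧ (K = ⊤ → l ≤ 1) := by
    intro K l h
    induction h with
    | bot => exact ⟨fun _ => rfl, fun _ => Nat.zero_le 1⟩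
    | @step A B l hA hlt hn ih =>
      refine ⟨fun e => absurd (e ▸ hlt) not_lt_bot, fun e => ?_⟩
      subst e
      have hN : A.Normal := ⟨fun a ha g => hn g trivial a ha⟩
      rcases hN.eq_bot_or_eq_top with e | e
      · rw [ih.1 e]
      · exact absurd e hlt.ne
  exact (key (clen_spec (G := G))).2 rfl

theorem clen_eq_add_quotient [Finite G] (N : Subgroup G) [N.Normal] :
    clen G = clen N + clen (G ⧸ N) := by
  rw [clen_eq_ker_add_range (QuotientGroup.mk' N)]
  congr 1
  · exact clen_congr (MulEquiv.subgroupCongr (QuotientGroup.ker_mk' N))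
  · exact clen_congr ((MulEquiv.subgroupCongr (QuotientGroup.range_mk' N)).trans Subgroup.topEquiv)

theorem clen_ker_le [Finite G] (f : G →* Q) : clen f.ker ≤ clen G := by
  rw [clen_eq_ker_add_range f]; omega

theorem clen_of_injective [Finite G] (f : G →* Q) (hf : Function.Injective f) :
    clen G = clen f.range :=
  have : Finite f.range := Finite.of_surjective f.rangeRestrict f.rangeRestrict_surjective
  clen_congr (MonoidHom.ofInjective hf)

theorem clen_prod [Finite G] [Finite Q] : clen (G × Q) = clen G + clen Q := by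
  rw [clen_eq_ker_add_range (MonoidHom.snd G Q)]
  have hs : Function.Surjective (MonoidHom.snd G Q) := fun q => ⟨(1, q), rfl⟩
  have e1 : clen (MonoidHom.snd G Q).ker = clen G := by
    refine (clen_congr (MulEquiv.ofBijective
      ((MonoidHom.inl G Q).codRestrict (MonoidHom.snd G Q).ker (fun x => rfl)) ⟨?_, ?_⟩)).symm
    · intro x y h
      exact (Prod.ext_iff.mp (congrArg Subtype.val h)).1
    · rintro ⟨⟨x, y⟩, h⟩
      refine ⟨x, Subtype.ext (Prod.ext rfl ?_)⟩
      exact (show y = 1 from h).symm
  have e2 : clen (MonoidHom.snd G Q).range = clen Q :=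
    clen_congr ((MulEquiv.subgroupCongr (MonoidHom.range_eq_top.mpr hs)).trans Subgroup.topEquiv)
  rw [e1, e2]

end Cfsg.Agent.CompLen
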