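import Cfsg.Agent.Lib.CompLen.Primitive

/-!
The composition length of a permutation group of degree `n` with `r` orbits is at most `(4/3)(n - r)`.
-/

set_option autoImplicit false

namespace Cfsg.Agent.CompLen

open scoped Pointwise

universe u v

/-- The bound for all subgroups of symmetric groups of degree less than `n`. -/
def BoundBelow (n : ℕ) : Prop :=
  ∀ (α : Type v) [Finite α] (K : Subgroup (Equiv.Perm α)), Nat.card α < n →
    3 * clen K + 4 * Nat.card (MulAction.orbitRel.Quotient K α) ≤ 4 * Nat.card α

theorem bound_range {G : Type u} [Group G] [Finite G] {α : Type v} [Finite α] [MulAction G α]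
    [FaithfulSMul G α]
    (h : ∀ K : Subgroup (Equiv.Perm α),
      3 * clen K + 4 * Nat.card (MulAction.orbitRel.Quotient K α) ≤ 4 * Nat.card α) :
    3 * clen G + 4 * Nat.card (MulAction.orbitRel.Quotient G α) ≤ 4 * Nat.card α := by
  let f := MulAction.toPermHom G α
  have hf : Function.Injective f := MulAction.toPerm_injective
  have h1 := h f.range
  rw [← clen_of_injective f hf] at h1
  have hrel : MulAction.orbitRel G α = MulAction.orbitRel f.range α := by
    ext x y
    simp only [MulAction.orbitRel_apply, MulAction.mem_orbit_iff]
    constructor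
    · rintro ⟨g, rfl⟩; exact ⟨⟨f g, g, rfl⟩, rfl⟩
    · rintro ⟨⟨_, g, rfl⟩, rfl⟩; exact ⟨g, rfl⟩
  have : MulAction.orbitRel.Quotient G α = MulAction.orbitRel.Quotient f.range α :=
    congrArg Quotient hrel
  rwa [this]

theorem BoundBelow.faithful {n : ℕ} (h : BoundBelow.{v} n) {G : Type u} [Group G] [Finite G]
    {α : Type v} [Finite α] [MulAction G α] [FaithfulSMul G α] (hlt : Nat.card α < n) :
    3 * clen G + 4 * Nat.card (MulAction.orbitRel.Quotient G α) ≤ 4 * Nat.card α :=
  bound_range fun K => h α K hlt

/-- The intransitive step. -/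
theorem bound_intransitive {n : ℕ} (ih : BoundBelow.{v} n) {G : Type u} [Group G] [Finite G]
    {α : Type v} [Finite α] [MulAction G α] [FaithfulSMul G α] (hn : Nat.card α = n)
    (hr : 2 ≤ Nat.card (MulAction.orbitRel.Quotient G α)) :
    3 * clen G + 4 * Nat.card (MulAction.orbitRel.Quotient G α) ≤ 4 * n := by
  classical
  have : Nonempty α := by
    by_contra h
    rw [not_nonempty_iff] at h
    rw [Nat.card_eq_zero.mpr (Or.inl ?_)] at hr
    · omega
    · infer_instance
  obtain ⟨a⟩ := this
  let O := MulAction.orbit G a
  let f : G →* Equiv.Perm O := MulAction.toPermHom G O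
  have hC : ∀ (g : f.ker) (x : α), x ∉ O → (g : G) • x ∉ O := by
    intro g x hx h
    rw [MulAction.mem_orbit_iff] at h
    obtain ⟨g', hg'⟩ := h
    exact hx ⟨(g : G)⁻¹ * g', by simp [mul_smul, hg']⟩
  let C : SubMulAction f.ker α := { carrier := Oᶜ, smul_mem' := fun g x hx => hC g x hx }
  have hsum : Nat.card O + Nat.card C = Nat.card α := by
    have h1 : Nat.card C = Nat.card (Oᶜ : Set α) := rfl
    rw [h1, Nat.card_coe_set_eq, Nat.card_coe_set_eq, Set.ncard_add_ncard_compl]
  have hO : 1 ≤ Nat.card O := by
    rw [Nat.one_le_iff_ne_zero, Nat.card_coe_set_eq]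
    exact (Set.ncard_ne_zero_of_mem (MulAction.mem_orbit_self a))
  have hCne : 1 ≤ Nat.card C := by
    by_contra hc
    have hu : O = Set.univ := by
      rw [Set.eq_univ_iff_ncard]
      rw [Nat.card_coe_set_eq] at hsum
      omega
    have : Subsingleton (MulAction.orbitRel.Quotient G α) := by
      constructor
      intro p q
      induction p using Quotient.inductionOn' with
      | h x => induction q using Quotient.inductionOn' with
        | h y =>
          refine Quotient.sound' ?_
          show x ∈ MulAction.orbit G y
          have hx : x ∈ O := hu ▸ Set.mem_univ x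
          have hy : y ∈ O := hu ▸ Set.mem_univ y
          rw [MulAction.orbit_eq_iff.mpr hy]
          exact hx
    have := Finite.card_le_one_iff_subsingleton.mpr this
    omega
  have hker : ∀ g : f.ker, ∀ x ∈ O, (g : G) • x = x := by
    intro g x hx
    exact congrArg Subtype.val (Equiv.Perm.ext_iff.mp g.2 ⟨x, hx⟩)
  have : FaithfulSMul f.ker C := by
    refine ⟨fun {g h} he => Subtype.ext (FaithfulSMul.eq_of_smul_eq_smul (α := α) fun x => ?_)⟩
    by_cases hx : x ∈ O
    · rw [hker g x hx, hker h x hx]
    · exact congrArg Subtype.val (he ⟨x, hx⟩)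
  have h2 := ih.faithful (G := f.ker) (α := C) (by omega)
  have h1 := ih O f.range (by omega)
  have hq1 : 1 ≤ Nat.card (MulAction.orbitRel.Quotient f.range O) := by
    have : Nonempty (MulAction.orbitRel.Quotient f.range O) :=
      ⟨Quotient.mk'' ⟨a, MulAction.mem_orbit_self a⟩⟩
    exact Nat.card_pos
  have hq : Nat.card (MulAction.orbitRel.Quotient G α) ≤
      Nat.card (MulAction.orbitRel.Quotient f.ker C) + 1 := by
    let φ : Option (MulAction.orbitRel.Quotient f.ker C) → MulAction.orbitRel.Quotient G α :=
      fun o => o.elim (Quotient.mk'' a) (Quotient.map' (fun x => (x : α)) (by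
        intro x y hxy
        obtain ⟨g, hg⟩ := hxy
        exact ⟨(g : G), congrArg Subtype.val hg⟩))
    have hφ : Function.Surjective φ := by
      intro q
      induction q using Quotient.inductionOn' with
      | h x =>
        by_cases hx : x ∈ O
        · exact ⟨none, Quotient.sound' (MulAction.mem_orbit_symm.mp hx)⟩
        · exact ⟨some (Quotient.mk'' ⟨x, hx⟩), rfl⟩
    calc _ ≤ Nat.card (Option (MulAction.orbitRel.Quotient f.ker C)) :=
          Nat.card_le_card_of_surjective φ hφ
      _ = _ := Finite.card_option
  have hlen := clen_eq_ker_add_range f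
  omega

/-- The bound for all finite permutation groups. -/
theorem boundBelow_all : ∀ n, BoundBelow.{v} n := by
  intro n
  induction n with
  | zero => intro α _ K h; omega
  | succ n ih =>
    intro α _ K hlt
    rcases Nat.lt_or_ge (Nat.card α) n with h | h
    · exact ih α K h
    have hn : Nat.card α = n := by omega
    rcases Nat.lt_or_ge (Nat.card (MulAction.orbitRel.Quotient K α)) 2 with hr | hr
    swap
    · exact hn ▸ bound_intransitive ih hn hr
    rcases Nat.lt_or_ge n 2 with hn2 | hn2
    · have : Subsingleton α := Finite.card_le_one_iff_subsingleton.mp (by omega)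
      have : Subsingleton K := ⟨fun x y => Subtype.ext (Equiv.ext fun z => Subsingleton.elim _ _)⟩
      rw [clen_eq_zero]
      have : Nat.card (MulAction.orbitRel.Quotient K α) ≤ Nat.card α :=
        Nat.card_le_card_of_surjective Quotient.mk'' Quotient.mk''_surjective
      omega
    have hsub : Subsingleton (MulAction.orbitRel.Quotient K α) :=
      Finite.card_le_one_iff_subsingleton.mp (by omega)
    have htr : MulAction.IsPretransitive K α := by
      refine ⟨fun x y => ?_⟩
      exact Quotient.exact' (Subsingleton.elim
        (Quotient.mk'' y : MulAction.orbitRel.Quotient K α) (Quotient.mk'' x))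
    have hnt : Nontrivial α := Finite.one_lt_card_iff_nontrivial.mp (by omega)
    suffices h : 3 * clen K + 4 ≤ 4 * n by omega
    by_cases hprim : MulAction.IsPreprimitive K α
    · obtain ⟨a⟩ : Nonempty α := inferInstance
      have hstab : 3 * clen (MulAction.stabilizer K a) + 4 * 2 ≤ 4 * n := by
        have hr2 : 2 ≤ Nat.card (MulAction.orbitRel.Quotient (MulAction.stabilizer K a) α) := by
          obtain ⟨b, hb⟩ := exists_ne a
          rw [Nat.succ_le_iff, Finite.one_lt_card_iff_nontrivial]
          refine ⟨⟨Quotient.mk'' b, Quotient.mk'' a, fun he => hb ?_⟩⟩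
          obtain ⟨g, hg⟩ := Quotient.exact' he
          rw [← hg]
          exact g.2
        have := bound_intransitive ih hn hr2
        omega
      have := primitive_bound hprim (by omega) a (by omega) fun β _ f hf hβ => by
        have h1 := ih β f.range (by omega)
        rw [← clen_of_injective f hf] at h1
        omega
      omega
    · obtain ⟨B, hB, hBne⟩ : ∃ B : Set α, MulAction.IsBlock K B ∧ ¬ MulAction.IsTrivialBlock B := by
        by_contra hc
        push Not at hc
        exact hprim { isTrivialBlock_of_isBlock := fun {B} hB => hc B hB }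
      rw [MulAction.IsTrivialBlock, not_or] at hBne
      have hBne' : B.Nonempty := (Set.not_subsingleton_iff.mp hBne.1).nonempty
      have hprod := hB.ncard_block_mul_ncard_orbit_eq hBne'
      have hb2 : 2 ≤ B.ncard := (Set.one_lt_ncard_iff_nontrivial).mpr (Set.not_subsingleton_iff.mp hBne.1)
      have hbn : B.ncard < n := by
        rw [← hn, ← Set.ncard_univ]
        exact Set.ncard_lt_ncard (Set.ssubset_univ_iff.mpr hBne.2)
      rw [hn] at hprod
      set m := (MulAction.orbit K B).ncard with hm
      have hm2 : 2 ≤ m := by
        by_contra hh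
        interval_cases m <;> omega
      have hmn : m < n := by
        have := Nat.mul_le_mul_right m hb2
        omega
      let f : K →* Equiv.Perm (MulAction.orbit K B) := MulAction.toPermHom K (MulAction.orbit K B)
      have hcard : Nat.card (MulAction.orbit K B) = m := Nat.card_coe_set_eq _
      have h1 := ih (MulAction.orbit K B) f.range (by omega)
      have hq1 : 1 ≤ Nat.card (MulAction.orbitRel.Quotient f.range (MulAction.orbit K B)) := by
        have : Nonempty (MulAction.orbitRel.Quotient f.range (MulAction.orbit K B)) :=
          ⟨Quotient.mk'' ⟨B, MulAction.mem_orbit_self B⟩⟩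
        exact Nat.card_pos
      have hfix : ∀ g : f.ker, ∀ C ∈ MulAction.orbit K B, (g : K) • C = C :=
        fun g C hC => congrArg Subtype.val (Equiv.Perm.ext_iff.mp g.2 ⟨C, hC⟩)
      have hpart := hB.isBlockSystem hBne'
      have hq : m ≤ Nat.card (MulAction.orbitRel.Quotient f.ker α) := by
        have hblk : ∀ x : α, ∃ C : MulAction.orbit K B, x ∈ (C : Set α) := by
          intro x
          obtain ⟨b, hb⟩ := hBne'
          obtain ⟨g, hg⟩ := htr.exists_smul_eq b x
          exact ⟨⟨g • B, MulAction.mem_orbit B g⟩, hg ▸ Set.smul_mem_smul_set hb⟩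
        choose blk hblk using hblk
        have huniq : ∀ (x : α) (C : MulAction.orbit K B), x ∈ (C : Set α) → blk x = C := by
          intro x C hx
          obtain ⟨g₁, hg₁⟩ := C.2
          obtain ⟨g₂, hg₂⟩ := (blk x).2
          refine Subtype.ext ?_
          rw [← hg₁, ← hg₂]
          by_contra hne
          exact Set.disjoint_left.mp (hB hne) (by simpa only [hg₂] using hblk x)
            (by simpa only [hg₁] using hx)
        rw [← hcard]
        refine Nat.card_le_card_of_surjective (Quotient.lift blk ?_) ?_
        · rintro x y ⟨g, rfl⟩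
          refine huniq _ _ ?_
          have h3 : (g : K) • y ∈ (g : K) • ((blk y : Set α)) := Set.smul_mem_smul_set (hblk y)
          rwa [hfix g _ (blk y).2] at h3
        · intro C
          obtain ⟨g, hg⟩ := C.2
          obtain ⟨b, hb⟩ := hBne'
          refine ⟨Quotient.mk'' ((g : K) • b), huniq _ _ ?_⟩
          rw [← hg]
          exact Set.smul_mem_smul_set hb
      have h2 := bound_intransitive (G := f.ker) (α := α) ih hn (by omega)
      have hlen := clen_eq_ker_add_range f
      omega

/-- A finite group with a faithful action on a finite set has composition length bounded by the degree. -/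
theorem clen_add_orbits_le {G : Type u} [Group G] [Finite G] {α : Type v} [Finite α]
    [MulAction G α] [FaithfulSMul G α] :
    3 * clen G + 4 * Nat.card (MulAction.orbitRel.Quotient G α) ≤ 4 * Nat.card α :=
  (boundBelow_all (Nat.card α + 1)).faithful (Nat.lt_succ_self _)

end Cfsg.Agent.CompLen
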