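import Cfsg.Agent.Lib.CompLen.Basic

/-!
Structure of a minimal normal subgroup of a finite group as a commuting product of conjugate minimal factors.
-/

set_option autoImplicit false

namespace Cfsg.Agent.CompLen

universe u

variable {G : Type u} [Group G]

/-- `T` is stable under conjugation by the elements of `N`. -/
def ConjInv (N T : Subgroup G) : Prop := ∀ n ∈ N, ∀ t ∈ T, n * t * n⁻¹ ∈ T

theorem ConjInv.mono {N N' T : Subgroup G} (h : ConjInv N T) (hle : N' ≤ N) : ConjInv N' T :=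
  fun n hn => h n (hle hn)

theorem conjInv_self (T : Subgroup G) : ConjInv T T :=
  fun _ hn _ ht => T.mul_mem (T.mul_mem hn ht) (T.inv_mem hn)

theorem conjInv_bot (N : Subgroup G) : ConjInv N ⊥ := by
  intro n _ t ht
  rw [Subgroup.mem_bot] at ht ⊢
  simp [ht]

theorem conjInv_of_normal (N T : Subgroup G) [T.Normal] : ConjInv N T :=
  fun n _ t ht => Subgroup.Normal.conj_mem inferInstance t ht n

theorem ConjInv.inf {N A B : Subgroup G} (hA : ConjInv N A) (hB : ConjInv N B) :
    ConjInv N (A ⊓ B) :=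
  fun n hn t ht => ⟨hA n hn t ht.1, hB n hn t ht.2⟩

theorem ConjInv.sup {N A B : Subgroup G} (hA : ConjInv N A) (hB : ConjInv N B) :
    ConjInv N (A ⊔ B) := by
  intro n hn t ht
  have : A ⊔ B ≤ (A ⊔ B).comap (MulAut.conj n).toMonoidHom :=
    sup_le (fun a ha => Subgroup.mem_sup_left (hA n hn a ha))
      (fun a ha => Subgroup.mem_sup_right (hB n hn a ha))
  exact this ht

theorem ConjInv.finsetSup {ι : Type*} {N : Subgroup G} (S : Finset ι) (f : ι → Subgroup G)
    (h : ∀ i ∈ S, ConjInv N (f i)) : ConjInv N (S.sup f) :=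
  Finset.sup_induction (conjInv_bot N) (fun _ ha _ hb => ha.sup hb) h

theorem ConjInv.map_conj_eq {N T : Subgroup G} (h : ConjInv N T) {n : G} (hn : n ∈ N) :
    T.map (MulAut.conj n).toMonoidHom = T := by
  refine le_antisymm ?_ fun t ht => ⟨n⁻¹ * t * n, ?_, by simp [mul_assoc]⟩
  · rintro _ ⟨t, ht, rfl⟩
    exact h n hn t ht
  · simpa using h n⁻¹ (N.inv_mem hn) t ht

/-- Elementwise commuting. -/
def Comm (A B : Subgroup G) : Prop := ∀ a ∈ A, ∀ b ∈ B, a * b = b * a

theorem comm_iff_le_centralizer {A B : Subgroup G} :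
    Comm A B ↔ B ≤ Subgroup.centralizer (A : Set G) := by
  simp only [Comm, SetLike.le_def, Subgroup.mem_centralizer_iff, SetLike.mem_coe]
  exact ⟨fun h b hb a ha => h a ha b hb, fun h a ha b hb => h hb a ha⟩

theorem Comm.symm {A B : Subgroup G} (h : Comm A B) : Comm B A :=
  fun b hb a ha => (h a ha b hb).symm

theorem Comm.mono {A A' B B' : Subgroup G} (h : Comm A B) (hA : A' ≤ A) (hB : B' ≤ B) :
    Comm A' B' := fun a ha b hb => h a (hA ha) b (hB hb)

theorem comm_finsetSup {ι : Type*} {A : Subgroup G} (S : Finset ι) (f : ι → Subgroup G)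
    (h : ∀ i ∈ S, Comm A (f i)) : Comm A (S.sup f) := by
  rw [comm_iff_le_centralizer]
  exact Finset.sup_le fun i hi => comm_iff_le_centralizer.mp (h i hi)

/-- The product decomposition of two commuting subgroups with trivial intersection. -/
noncomputable def prodEquiv {A B : Subgroup G} (hc : Comm A B) (hd : A ⊓ B = ⊥) :
    A × B ≃* ↥(A ⊔ B) :=
  (MonoidHom.ofInjective (f := A.subtype.noncommCoprod B.subtype fun a b =>
      show Commute (A.subtype a) (B.subtype b) from hc a a.2 b b.2) (by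
      rw [← MonoidHom.ker_eq_bot_iff, eq_bot_iff]
      rintro ⟨a, b⟩ h
      have h' : (a : G) * (b : G) = 1 := h
      have ha : (a : G) ∈ A ⊓ B := ⟨a.2, by rw [eq_inv_of_mul_eq_one_left h']; exact B.inv_mem b.2⟩
      rw [hd, Subgroup.mem_bot] at ha
      rw [ha, one_mul] at h'
      rw [Subgroup.mem_bot]
      exact Prod.ext (Subtype.ext ha) (Subtype.ext h'))).trans
    (MulEquiv.subgroupCongr ((MonoidHom.noncommCoprod_range _ _ _).trans
      (by rw [Subgroup.range_subtype, Subgroup.range_subtype])))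

theorem prodEquiv_coe {A B : Subgroup G} (hc : Comm A B) (hd : A ⊓ B = ⊥) (a : A) (b : B) :
    (prodEquiv hc hd (a, b) : G) = (a : G) * (b : G) := rfl

theorem clen_sup_of_comm [Finite G] {A B : Subgroup G} (hc : Comm A B) (hd : A ⊓ B = ⊥) :
    clen ↥(A ⊔ B) = clen A + clen B := by
  rw [← clen_congr (prodEquiv hc hd), clen_prod]

theorem card_sup_of_comm {A B : Subgroup G} (hc : Comm A B) (hd : A ⊓ B = ⊥) :
    Nat.card ↥(A ⊔ B) = Nat.card A * Nat.card B := by
  rw [← Nat.card_congr (prodEquiv hc hd).toEquiv, Nat.card_prod]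

/-- `X` is a class of conjugate minimal `N`-invariant nontrivial subgroups of `N`, generating `N`. -/
structure IsFactorSet (N : Subgroup G) (X : Finset (Subgroup G)) : Prop where
  le : ∀ T ∈ X, T ≤ N
  ne_bot : ∀ T ∈ X, T ≠ ⊥
  inv : ∀ T ∈ X, ConjInv N T
  min : ∀ T ∈ X, ∀ A ≤ T, ConjInv N A → A ≠ ⊥ → A = T
  sup_eq : X.sup id = N
  conj_mem : ∀ (g : G), ∀ T ∈ X, T.map (MulAut.conj g).toMonoidHom ∈ X
  trans : ∀ T ∈ X, ∀ T' ∈ X, ∃ g : G, T.map (MulAut.conj g).toMonoidHom = T'

theorem map_conj_mul (g h : G) (T : Subgroup G) :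
    T.map (MulAut.conj (g * h)).toMonoidHom =
      (T.map (MulAut.conj h).toMonoidHom).map (MulAut.conj g).toMonoidHom := by
  rw [Subgroup.map_map]
  congr 1
  ext x
  simp [mul_assoc]

theorem map_conj_one (T : Subgroup G) : T.map (MulAut.conj (1 : G)).toMonoidHom = T := by
  rw [(conjInv_self T).map_conj_eq T.one_mem]

theorem map_conj_inv (g : G) (T : Subgroup G) :
    (T.map (MulAut.conj g).toMonoidHom).map (MulAut.conj g⁻¹).toMonoidHom = T := by
  rw [← map_conj_mul, inv_mul_cancel, map_conj_one]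

theorem exists_factorSet [Finite G] {N : Subgroup G} [N.Normal] (hN : N ≠ ⊥)
    (hmin : ∀ A : Subgroup G, A.Normal → A ≤ N → A ≠ ⊥ → A = N) :
    ∃ X : Finset (Subgroup G), IsFactorSet N X ∧ X.Nonempty := by
  classical
  have : Fintype G := Fintype.ofFinite G
  obtain ⟨T, ⟨hTN, hT0, hTi⟩, hT⟩ : ∃ T, Minimal (fun T => T ≤ N ∧ T ≠ ⊥ ∧ ConjInv N T) T :=
    Set.Finite.exists_minimal (Set.toFinite {T | T ≤ N ∧ T ≠ ⊥ ∧ ConjInv N T})
      ⟨N, le_rfl, hN, conjInv_self N⟩
  have hNg : ∀ g : G, N.map (MulAut.conj g).toMonoidHom = N :=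
    fun g => (conjInv_of_normal ⊤ N).map_conj_eq (Subgroup.mem_top g)
  have hinv : ∀ (g : G) (A : Subgroup G), ConjInv N A →
      ConjInv N (A.map (MulAut.conj g).toMonoidHom) := by
    rintro g A hA n hn _ ⟨a, ha, rfl⟩
    exact ⟨(g⁻¹ * n * g) * a * (g⁻¹ * n * g)⁻¹,
      hA _ (by simpa using Subgroup.Normal.conj_mem inferInstance n hn g⁻¹) _ ha,
      by simp [mul_assoc]⟩
  have hle : ∀ g : G, T.map (MulAut.conj g).toMonoidHom ≤ N :=
    fun g => (Subgroup.map_mono hTN).trans_eq (hNg g)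
  have hbot : ∀ (g : G) (A : Subgroup G), A ≠ ⊥ → A.map (MulAut.conj g).toMonoidHom ≠ ⊥ :=
    fun g A h0 h => h0 (by
      rwa [Subgroup.map_eq_bot_iff_of_injective _ (MulAut.conj g).injective] at h)
  refine ⟨Finset.univ.image fun g => T.map (MulAut.conj g).toMonoidHom,
    { le := ?_, ne_bot := ?_, inv := ?_, min := ?_, sup_eq := ?_, conj_mem := ?_, trans := ?_ },
    Finset.univ_nonempty.image _⟩
  · simp only [Finset.mem_image, Finset.mem_univ, true_and]
    rintro _ ⟨g, rfl⟩; exact hle g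
  · simp only [Finset.mem_image, Finset.mem_univ, true_and]
    rintro _ ⟨g, rfl⟩; exact hbot g T hT0
  · simp only [Finset.mem_image, Finset.mem_univ, true_and]
    rintro _ ⟨g, rfl⟩; exact hinv g T hTi
  · simp only [Finset.mem_image, Finset.mem_univ, true_and]
    rintro _ ⟨g, rfl⟩ A hA hAi hA0
    have hA' : A.map (MulAut.conj g⁻¹).toMonoidHom ≤ T := by
      have := Subgroup.map_mono (f := (MulAut.conj g⁻¹).toMonoidHom) hA
      rwa [map_conj_inv] at this
    have heq : A.map (MulAut.conj g⁻¹).toMonoidHom = T :=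
      le_antisymm hA' (hT ⟨hA'.trans hTN, hbot _ A hA0, hinv _ A hAi⟩ hA')
    rw [← heq, ← map_conj_mul, mul_inv_cancel, map_conj_one]
  · refine hmin _ ⟨fun x hx g => ?_⟩ (Finset.sup_le fun A hA => ?_) ?_
    · have key : ∀ A ∈ Finset.univ.image (fun g : G => T.map (MulAut.conj g).toMonoidHom),
          A ≤ ((Finset.univ.image fun g : G => T.map (MulAut.conj g).toMonoidHom).sup id).comap
            (MulAut.conj g).toMonoidHom := by
        intro A hA
        simp only [Finset.mem_image, Finset.mem_univ, true_and] at hA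
        obtain ⟨g', rfl⟩ := hA
        rw [← Subgroup.map_le_iff_le_comap, ← map_conj_mul]
        exact Finset.le_sup (f := id) (Finset.mem_image_of_mem _ (Finset.mem_univ _))
      exact Finset.sup_le (f := id) key hx
    · simp only [Finset.mem_image, Finset.mem_univ, true_and] at hA
      obtain ⟨g, rfl⟩ := hA
      exact hle g
    · intro h
      refine hT0 (eq_bot_iff.mpr (le_trans (le_of_eq (map_conj_one T).symm) ?_))
      rw [← h]
      exact Finset.le_sup (f := id) (Finset.mem_image_of_mem _ (Finset.mem_univ _))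
  · simp only [Finset.mem_image, Finset.mem_univ, true_and]
    rintro g _ ⟨g', rfl⟩
    exact ⟨g * g', map_conj_mul g g' T⟩
  · simp only [Finset.mem_image, Finset.mem_univ, true_and]
    rintro _ ⟨g, rfl⟩ _ ⟨g', rfl⟩
    exact ⟨g' * g⁻¹, by rw [map_conj_mul, map_conj_inv]⟩

namespace IsFactorSet

variable {N : Subgroup G} {X : Finset (Subgroup G)}

theorem inf_eq_bot (h : IsFactorSet N X) {A B : Subgroup G} (hA : A ∈ X) (hB : B ∈ X)
    (hne : A ≠ B) : A ⊓ B = ⊥ := by
  by_contra h0
  have hi := (h.inv A hA).inf (h.inv B hB)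
  exact hne ((h.min A hA _ inf_le_left hi h0).symm.trans (h.min B hB _ inf_le_right hi h0))

theorem comm (h : IsFactorSet N X) {A B : Subgroup G} (hA : A ∈ X) (hB : B ∈ X) (hne : A ≠ B) :
    Comm A B := by
  intro a ha b hb
  have hc : a * b * a⁻¹ * b⁻¹ ∈ A ⊓ B := by
    refine ⟨?_, B.mul_mem (h.inv B hB a (h.le A hA ha) b hb) (B.inv_mem hb)⟩
    have := A.mul_mem ha (h.inv A hA b (h.le B hB hb) a⁻¹ (A.inv_mem ha))
    simpa [mul_assoc] using this
  rw [h.inf_eq_bot hA hB hne, Subgroup.mem_bot] at hc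
  calc a * b = (a * b * a⁻¹ * b⁻¹) * (b * a) := by simp [mul_assoc]
    _ = b * a := by rw [hc, one_mul]

theorem comm_sup (h : IsFactorSet N X) {A : Subgroup G} {S : Finset (Subgroup G)} (hA : A ∈ X)
    (hS : S ⊆ X) (hAS : A ∉ S) : Comm A (S.sup id) :=
  comm_finsetSup _ _ fun _ hB => h.comm hA (hS hB) (fun e => hAS (e ▸ hB))

theorem center_eq_bot (h : IsFactorSet N X) [N.Normal]
    (hmin : ∀ A : Subgroup G, A.Normal → A ≤ N → A ≠ ⊥ → A = N)
    (hna : ¬ Comm N N) {A : Subgroup G} (hA : A ∈ X) {x : G} (hx : x ∈ A)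
    (hc : ∀ y ∈ A, x * y = y * x) : x = 1 := by
  have hxN : x ∈ Subgroup.centralizer (N : Set G) := by
    rw [Subgroup.mem_centralizer_iff]
    intro y hy
    have : N ≤ Subgroup.centralizer ({x} : Set G) := by
      rw [← h.sup_eq]
      refine Finset.sup_le fun B hB => fun b hb => ?_
      rw [Subgroup.mem_centralizer_iff]
      intro z hz
      rw [Set.mem_singleton_iff] at hz
      rw [hz]
      rcases eq_or_ne A B with rfl | hne
      · exact hc b hb
      · exact h.comm hA hB hne x hx b hb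
    exact ((Subgroup.mem_centralizer_iff.mp (this hy)) x rfl).symm
  have hn : (N ⊓ Subgroup.centralizer (N : Set G)).Normal := inferInstance
  by_contra hx1
  refine hna fun a ha b hb => ?_
  have := hmin _ hn inf_le_left (fun e => hx1 ?_)
  · rw [← this] at hb
    exact Subgroup.mem_centralizer_iff.mp hb.2 a ha
  · rw [← Subgroup.mem_bot, ← e]
    exact ⟨h.le A hA hx, hxN⟩

theorem inf_sup_eq_bot (h : IsFactorSet N X) [N.Normal]
    (hmin : ∀ A : Subgroup G, A.Normal → A ≤ N → A ≠ ⊥ → A = N)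
    (hna : ¬ Comm N N) {A : Subgroup G} {S : Finset (Subgroup G)} (hA : A ∈ X)
    (hS : S ⊆ X) (hAS : A ∉ S) : A ⊓ S.sup id = ⊥ := by
  rw [eq_bot_iff]
  intro x hx
  rw [Subgroup.mem_bot]
  exact h.center_eq_bot hmin hna hA hx.1 fun y hy => (h.comm_sup hA hS hAS y hy x hx.2).symm

theorem conjInv_of_le (h : IsFactorSet N X) {A B : Subgroup G} (hA : A ∈ X) (hB : B ≤ A)
    (hi : ConjInv A B) : ConjInv N B := by
  classical
  intro n hn b hb
  rw [← h.sup_eq] at hn
  have key : X.sup id ≤ Subgroup.normalizer (B : Set G) := by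
    refine Finset.sup_le fun C hC c hc => ?_
    rw [Subgroup.mem_normalizer_iff]
    intro y
    rcases eq_or_ne A C with rfl | hne
    · refine ⟨fun hy => hi c hc y hy, fun hy => ?_⟩
      have := hi c⁻¹ (A.inv_mem hc) _ hy
      simpa [mul_assoc] using this
    · have hcomm : ∀ z ∈ B, c * z * c⁻¹ = z := fun z hz => by
        rw [← h.comm hA hC hne z (hB hz) c hc, mul_inv_cancel_right]
      refine ⟨fun hy => by rw [hcomm y hy]; exact hy, fun hy => ?_⟩
      have hy' := hcomm _ hy
      have : c * y * c⁻¹ = y := mul_left_cancel (mul_right_cancel hy')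
      rwa [this] at hy
  exact (Subgroup.mem_normalizer_iff.mp (key hn) b).mp hb

theorem isSimpleGroup (h : IsFactorSet N X) {A : Subgroup G} (hA : A ∈ X) : IsSimpleGroup A := by
  have : Nontrivial A := A.nontrivial_iff_ne_bot.mpr (h.ne_bot A hA)
  refine ⟨fun H hH => ?_⟩
  rw [or_iff_not_imp_left]
  intro h0
  have hi : ConjInv A (H.map A.subtype) := by
    rintro a ha _ ⟨y, hy, rfl⟩
    exact ⟨_, hH.conj_mem y hy ⟨a, ha⟩, rfl⟩
  have := h.min A hA _ (Subgroup.map_subtype_le H)
    (h.conjInv_of_le hA (Subgroup.map_subtype_le H) hi)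
    (fun e => h0 (by rwa [Subgroup.map_eq_bot_iff_of_injective _ A.subtype_injective] at e))
  apply Subgroup.map_injective A.subtype_injective
  rw [this, ← MonoidHom.range_eq_map, Subgroup.range_subtype]

theorem card_eq (h : IsFactorSet N X) {A B : Subgroup G} (hA : A ∈ X) (hB : B ∈ X) :
    Nat.card A = Nat.card B := by
  obtain ⟨g, rfl⟩ := h.trans A hA B hB
  exact (Nat.card_congr (A.equivMapOfInjective _ (MulAut.conj g).injective).toEquiv)

theorem clen_card_sup [Finite G] (h : IsFactorSet N X) [N.Normal]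
    (hmin : ∀ A : Subgroup G, A.Normal → A ≤ N → A ≠ ⊥ → A = N)
    (hna : ¬ Comm N N) {A : Subgroup G} (hA : A ∈ X) (S : Finset (Subgroup G)) (hS : S ⊆ X) :
    clen ↥(S.sup id) = S.card ∧ Nat.card ↥(S.sup id) = Nat.card A ^ S.card := by
  classical
  induction S using Finset.induction_on with
  | empty =>
    have : Subsingleton ↥((∅ : Finset (Subgroup G)).sup id) := by rw [Finset.sup_empty]; infer_instance
    exact ⟨clen_eq_zero, by simp⟩
  | @insert B S hBS ih =>
    have hB : B ∈ X := hS (Finset.mem_insert_self B S)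
    have hS' : S ⊆ X := fun x hx => hS (Finset.mem_insert_of_mem hx)
    have hc := h.comm_sup hB hS' hBS
    have hd := h.inf_sup_eq_bot hmin hna hB hS' hBS
    have := h.isSimpleGroup hB
    obtain ⟨h1, h2⟩ := ih hS'
    rw [Finset.sup_insert, id_eq, Finset.card_insert_of_notMem hBS]
    refine ⟨?_, ?_⟩
    · rw [clen_sup_of_comm hc hd, clen_eq_one_of_isSimpleGroup, h1, Nat.add_comm]
    · rw [card_sup_of_comm hc hd, h.card_eq hB hA, h2, pow_succ, Nat.mul_comm]

theorem le_clen_of_inf_ne_bot [Finite G] (h : IsFactorSet N X) [N.Normal]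
    (hmin : ∀ A : Subgroup G, A.Normal → A ≤ N → A ≠ ⊥ → A = N)
    (hna : ¬ Comm N N) {U : Subgroup G} (hU : U ≤ N) (hne : ∀ A ∈ X, A ⊓ U ≠ ⊥) :
    X.card ≤ clen U := by
  classical
  have key : ∀ S : Finset (Subgroup G), S ⊆ X → S.card ≤ clen ↥(S.sup fun A => A ⊓ U) := by
    intro S
    induction S using Finset.induction_on with
    | empty => simp
    | @insert B S hBS ih =>
      intro hS
      have hB : B ∈ X := hS (Finset.mem_insert_self B S)
      have hS' : S ⊆ X := fun x hx => hS (Finset.mem_insert_of_mem hx)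
      have hle : (S.sup fun A => A ⊓ U) ≤ S.sup id := Finset.sup_mono_fun fun _ _ => inf_le_left
      have hc := (h.comm_sup hB hS' hBS).mono (A' := B ⊓ U) inf_le_left hle
      have hd : (B ⊓ U) ⊓ (S.sup fun A => A ⊓ U) = ⊥ := eq_bot_iff.mpr
        ((inf_le_inf inf_le_left hle).trans_eq (h.inf_sup_eq_bot hmin hna hB hS' hBS))
      rw [Finset.sup_insert, clen_sup_of_comm hc hd, Finset.card_insert_of_notMem hBS]
      have : Nontrivial ↥(B ⊓ U) := (B ⊓ U).nontrivial_iff_ne_bot.mpr (hne B hB)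
      have := one_le_clen (G := ↥(B ⊓ U))
      have := ih hS'
      omega
  refine (key X Finset.Subset.rfl).trans ?_
  have hW : (X.sup fun A => A ⊓ U) ≤ U := Finset.sup_le fun A _ => inf_le_right
  have hn : ((X.sup fun A => A ⊓ U).subgroupOf U).Normal := by
    refine ⟨fun a ha g => ?_⟩
    rw [Subgroup.mem_subgroupOf] at ha ⊢
    push_cast
    exact ConjInv.finsetSup (N := U) X (fun A => A ⊓ U)
      (fun A hA => ((h.inv A hA).mono hU).inf (conjInv_self U)) g g.2 a ha
  rw [← clen_congr (Subgroup.subgroupOfEquivOfLe hW),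
    clen_eq_add_quotient (G := ↥U) ((X.sup fun A => A ⊓ U).subgroupOf U)]
  omega

end IsFactorSet

end Cfsg.Agent.CompLen
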