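import Cfsg.Agent.Lib.CompLen.Pairing

/-!
The step for primitive groups in the bound of composition length by degree.
-/

set_option autoImplicit false

namespace Cfsg.Agent.CompLen

open ArithmeticFunction
open scoped ArithmeticFunction.Omega

universe u v

theorem abelian_ineq {p : ℕ} (hp : 2 ≤ p) : ∀ k : ℕ, 2 ≤ k → (3 ≤ p ∨ 4 ≤ k) →
    3 * k + 3 * k ^ 2 * (p - 1) + 4 ≤ 4 * p ^ k := by
  obtain ⟨q, rfl⟩ : ∃ q, p = q + 1 := ⟨p - 1, by omega⟩
  rw [Nat.add_sub_cancel]
  intro k
  induction k with
  | zero => omega
  | succ k ih =>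
    intro hk hor
    rcases Nat.lt_or_ge k 2 with h2 | h2
    · obtain rfl : k = 1 := by omega
      have : 2 ≤ q := by omega
      norm_num
      nlinarith
    · by_cases h' : 3 ≤ q + 1 ∨ 4 ≤ k
      · have := ih h2 h'
        rw [pow_succ (q + 1) k]
        nlinarith [mul_nonneg (Nat.zero_le q) (Nat.zero_le k),
          mul_le_mul_of_nonneg_left (show 2 ≤ q + 1 by omega) (Nat.zero_le (k ^ 2 * q))]
      · obtain ⟨rfl, rfl⟩ : q = 1 ∧ k = 3 := by omega
        norm_num

theorem cardFactors_le_six {d : ℕ} (hd : d ∣ 5040) (h : d ≤ 512) : Ω d ≤ 6 := by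
  obtain ⟨c, hc⟩ := hd
  have hd0 : d ≠ 0 := fun e => by simp [e] at hc
  have hc0 : c ≠ 0 := fun e => by simp [e] at hc
  have h8 : Ω 5040 = 8 := by
    rw [show (5040 : ℕ) = 2 ^ 4 * (3 ^ 2 * (5 * 7)) by norm_num,
      cardFactors_mul (by norm_num) (by norm_num), cardFactors_mul (by norm_num) (by norm_num),
      cardFactors_mul (by norm_num) (by norm_num), cardFactors_apply_prime_pow Nat.prime_two,
      cardFactors_apply_prime_pow Nat.prime_three, cardFactors_apply_prime Nat.prime_five,
      cardFactors_apply_prime (show Nat.Prime 7 by norm_num)]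
  rw [hc, cardFactors_mul hd0 hc0] at h8
  by_contra hh
  have hc1 : Ω c ≤ 1 := by omega
  rcases Nat.lt_or_ge (Ω c) 1 with h0 | h0
  · rcases cardFactors_eq_zero_iff_eq_zero_or_one.mp (by omega : Ω c = 0) with rfl | rfl
    · exact hc0 rfl
    · omega
  · have hp : c.Prime := cardFactors_eq_one_iff_prime.mp (by omega)
    have hcd : c ∣ 5040 := hc ▸ dvd_mul_left c d
    have : c ≤ 7 := by
      have h1 : c ∣ 2 ^ 4 * (3 ^ 2 * (5 * 7)) := by norm_num; exact hcd
      rcases (Nat.Prime.dvd_mul hp).mp h1 with h | h
      · have := Nat.le_of_dvd (by norm_num) (hp.dvd_of_dvd_pow h); omega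
      · rcases (Nat.Prime.dvd_mul hp).mp h with h | h
        · have := Nat.le_of_dvd (by norm_num) (hp.dvd_of_dvd_pow h); omega
        · rcases (Nat.Prime.dvd_mul hp).mp h with h | h <;>
          · have := Nat.le_of_dvd (by norm_num) h; omega
    nlinarith

theorem exists_generators {G : Type u} [Group G] [Finite G] : ∀ (n : ℕ) (K : Subgroup G),
    Nat.card K = n → ∃ S : Finset G, Subgroup.closure (S : Set G) = K ∧ S.card ≤ Ω n := by
  classical
  intro n
  induction n using Nat.strong_induction_on with
  | _ n ih =>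
    intro K hK
    rcases eq_or_ne K ⊥ with rfl | hne
    · exact ⟨∅, by simp⟩
    · obtain ⟨M, hMK, hMmax⟩ : ∃ M, M < K ∧ ∀ L, M ≤ L → L < K → L ≤ M := by
        obtain ⟨M, hM⟩ := Set.Finite.exists_maximal (Set.toFinite {L : Subgroup G | L < K})
          ⟨⊥, bot_lt_iff_ne_bot.mpr hne⟩
        exact ⟨M, hM.1, fun L h1 h2 => hM.2 h2 h1⟩
      obtain ⟨x, hxK, hxM⟩ := SetLike.exists_of_lt hMK
      obtain ⟨c, hc⟩ := Subgroup.card_dvd_of_le hMK.le
      have hlt : Nat.card M < n := by
        rw [← hK]
        by_contra h'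
        exact hMK.ne (Subgroup.eq_of_le_of_card_ge hMK.le (by omega))
      obtain ⟨S, hS, hSc⟩ := ih _ hlt M rfl
      refine ⟨insert x S, ?_, ?_⟩
      · have h1 : Subgroup.closure (↑(insert x S) : Set G) ≤ K := by
          rw [Subgroup.closure_le, Finset.coe_insert]
          exact Set.insert_subset hxK fun y hy => hMK.le (hS ▸ Subgroup.subset_closure hy)
        refine eq_of_le_of_not_lt h1 fun h2 => hxM ?_
        refine hMmax _ ?_ h2 (Subgroup.subset_closure (by simp))
        rw [← hS, Finset.coe_insert]
        exact Subgroup.closure_mono (Set.subset_insert _ _)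
      · have hc0 : c ≠ 0 := fun e => by
          rw [e, mul_zero] at hc; exact (Nat.card_pos (α := K)).ne' hc
        have hc1 : 1 < c := by
          rcases Nat.lt_or_ge 1 c with h' | h'
          · exact h'
          · rw [show c = 1 by omega, mul_one] at hc; omega
        rw [← hK, hc, cardFactors_mul Nat.card_pos.ne' hc0]
        have := cardFactors_pos_iff_one_lt.mpr hc1
        have := Finset.card_insert_le x S
        omega

theorem ten_le_card_of_nonabelian_simple (T : Type u) [Group T] [Finite T] [IsSimpleGroup T]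
    (h : ∃ a b : T, a * b ≠ b * a) : 10 ≤ Nat.card T := by
  obtain ⟨a, b, hab⟩ := h
  by_contra hlt
  have hpos := Nat.card_pos (α := T)
  have hcomm : (Subgroup.center T) ≠ ⊤ := fun e => hab (by
    have : b ∈ Subgroup.center T := e ▸ Subgroup.mem_top b
    exact Subgroup.mem_center_iff.mp this a)
  have hcen : Subgroup.center T = ⊥ :=
    (Subgroup.Normal.eq_bot_or_eq_top inferInstance).resolve_right hcomm
  have hpg : ∀ p, p.Prime → ∀ k, Nat.card T ≠ p ^ k := by
    intro p hp k hk
    have : Fact p.Prime := ⟨hp⟩
    have := (IsPGroup.of_card hk).center_nontrivial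
    rw [hcen] at this
    exact not_nontrivial _ this
  by_cases h6 : Nat.card T = 6
  · have : Fact (Nat.Prime 3) := ⟨by norm_num⟩
    obtain ⟨P⟩ : Nonempty (Sylow 3 T) := Sylow.nonempty
    have hP : Nat.card P = 3 := by
      rw [P.card_eq_multiplicity, h6,
        show (6 : ℕ) = 3 * 2 by norm_num, Nat.factorization_mul (by norm_num) (by norm_num)]
      simp [Nat.Prime.factorization_self (by norm_num : Nat.Prime 3),
        Nat.factorization_eq_zero_of_not_dvd (show ¬ 3 ∣ 2 by norm_num)]
    have hi : (P : Subgroup T).index = 2 := by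
      have := (P : Subgroup T).card_mul_index
      rw [h6, hP] at this
      omega
    rcases (Subgroup.normal_of_index_eq_two hi).eq_bot_or_eq_top with e | e
    · rw [e, Subgroup.index_bot, h6] at hi; omega
    · rw [e, Subgroup.index_top] at hi; omega
  · have := hpg 2 Nat.prime_two 0
    have := hpg 2 Nat.prime_two 1
    have := hpg 3 Nat.prime_three 1
    have := hpg 2 Nat.prime_two 2
    have := hpg 5 Nat.prime_five 1
    have := hpg 7 (by norm_num) 1
    have := hpg 2 Nat.prime_two 3
    have := hpg 3 Nat.prime_three 2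
    omega

theorem simple_power_ineq {t : ℕ} (ht : 10 ≤ t) : ∀ k, 3 ≤ k → (k * t + 1) ^ 2 ≤ t ^ k := by
  intro k hk
  induction k, hk using Nat.le_induction with
  | base => nlinarith [mul_le_mul_of_nonneg_right ht (Nat.zero_le (t ^ 2))]
  | succ k hk ih =>
    rw [pow_succ]
    have h1 : ((k + 1) * t + 1) ^ 2 ≤ 10 * (k * t + 1) ^ 2 := by nlinarith
    calc ((k + 1) * t + 1) ^ 2 ≤ 10 * (k * t + 1) ^ 2 := h1
      _ ≤ t * t ^ k := Nat.mul_le_mul ht ih
      _ = t ^ k * t := Nat.mul_comm _ _

theorem smallStab_apply {G : Type u} [Group G] (H : Subgroup G) (s : Set G)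
    (hs : ∀ h ∈ H, ∀ x ∈ s, h * x * h⁻¹ ∈ s) :
    ∃ f : H →* Equiv.Perm s, ∀ h x, ((f h x : s) : G) = (h : G) * x * (h : G)⁻¹ := by
  refine ⟨MonoidHom.mk' (fun h =>
    { toFun := fun x => ⟨(h : G) * x * (h : G)⁻¹, hs h h.2 x x.2⟩
      invFun := fun x => ⟨(h : G)⁻¹ * x * (h : G), by simpa using hs _ (H.inv_mem h.2) x x.2⟩
      left_inv := fun x => Subtype.ext (by simp [mul_assoc])
      right_inv := fun x => Subtype.ext (by simp [mul_assoc]) }) fun a b => ?_, fun _ _ => rfl⟩
  ext x
  simp [mul_assoc]

variable {G : Type u} [Group G] [Finite G] {α : Type v} [MulAction G α] [FaithfulSMul G α] [Finite α]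

/-- The bound for a primitive group, given the bounds for its point stabilizer. -/
theorem primitive_bound (hprim : MulAction.IsPreprimitive G α) (hn : 2 ≤ Nat.card α) (a : α)
    (hstab : 3 * clen (MulAction.stabilizer G a) + 4 * 2 ≤ 4 * Nat.card α)
    (hsmall : ∀ (β : Type u) [Finite β] (f : MulAction.stabilizer G a →* Equiv.Perm β),
      Function.Injective f → Nat.card β < Nat.card α →
        3 * clen (MulAction.stabilizer G a) ≤ 4 * Nat.card β) :
    3 * clen G + 4 ≤ 4 * Nat.card α := by
  classical
  set H := MulAction.stabilizer G a with hH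
  have hnt : Nontrivial α := Finite.one_lt_card_iff_nontrivial.mp hn
  have hntG : Nontrivial G := by
    obtain ⟨x, y, hxy⟩ := exists_pair_ne α
    obtain ⟨g, hg⟩ := hprim.exists_smul_eq x y
    exact ⟨⟨g, 1, fun e => hxy (by simpa [e] using hg)⟩⟩
  obtain ⟨N, ⟨hNn, hN0⟩, hNmin⟩ : ∃ N, Minimal (fun N : Subgroup G => N.Normal ∧ N ≠ ⊥) N :=
    Set.Finite.exists_minimal (Set.toFinite {A : Subgroup G | A.Normal ∧ A ≠ ⊥})
      ⟨⊤, inferInstance, top_ne_bot⟩
  have hmin : ∀ A : Subgroup G, A.Normal → A ≤ N → A ≠ ⊥ → A = N :=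
    fun A hA hle h0 => le_antisymm hle (hNmin ⟨hA, h0⟩ hle)
  have htr : MulAction.IsPretransitive N α := by
    refine MulAction.IsQuasiPreprimitive.isPretransitive_of_normal fun e => hN0 ?_
    rw [eq_bot_iff]
    intro x hx
    rw [Subgroup.mem_bot]
    refine FaithfulSMul.eq_of_smul_eq_smul (α := α) fun y => ?_
    have hy : y ∈ MulAction.fixedPoints N α := e ▸ Set.mem_univ y
    rw [one_smul]
    exact hy ⟨x, hx⟩
  have hfaith : ∀ h ∈ H, (∀ x ∈ N, h * x = x * h) → h = 1 := by
    intro h hh hc
    refine FaithfulSMul.eq_of_smul_eq_smul (α := α) fun y => ?_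
    obtain ⟨x, hx⟩ := htr.exists_smul_eq a y
    rw [← hx, Subgroup.smul_def, ← mul_smul, hc x x.2, mul_smul,
      MulAction.mem_stabilizer_iff.mp hh, one_smul]
  set U := N ⊓ H with hU
  have hcardN : Nat.card N = Nat.card α * Nat.card U := by
    have h1 := (MulAction.stabilizer N a).card_mul_index
    rw [MulAction.index_stabilizer_of_transitive] at h1
    have h2 : Nat.card (MulAction.stabilizer N a) = Nat.card U := by
      refine Nat.card_congr ⟨fun x => ⟨x.1, x.1.2, x.2⟩, fun x => ⟨⟨x.1, x.2.1⟩, x.2.2⟩,
        fun _ => rfl, fun _ => rfl⟩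
    rw [← h1, h2, Nat.mul_comm]
  have hlen : clen G + clen U = clen N + clen H := by
    let f : H →* G ⧸ N := (QuotientGroup.mk' N).comp H.subtype
    have hf : Function.Surjective f := by
      intro q
      obtain ⟨g, rfl⟩ := QuotientGroup.mk_surjective q
      obtain ⟨x, hx⟩ := htr.exists_smul_eq (g • a) a
      refine ⟨⟨x * g, ?_⟩, ?_⟩
      · rw [hH, MulAction.mem_stabilizer_iff, mul_smul]
        exact hx
      · show ((((x : G) * g : G)) : G ⧸ N) = (g : G ⧸ N)
        rw [QuotientGroup.mk_mul, (QuotientGroup.eq_one_iff (x : G)).mpr x.2, one_mul]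
    have h1 := clen_eq_ker_add_range f
    have h2 : clen f.range = clen (G ⧸ N) :=
      clen_congr ((MulEquiv.subgroupCongr (MonoidHom.range_eq_top.mpr hf)).trans Subgroup.topEquiv)
    have hle : U ≤ H := inf_le_right
    have h3 : f.ker = U.subgroupOf H := by
      ext x
      rw [MonoidHom.mem_ker, Subgroup.mem_subgroupOf]
      show ((x : G) : G ⧸ N) = 1 ↔ _
      rw [QuotientGroup.eq_one_iff, hU, Subgroup.mem_inf]
      exact ⟨fun h => ⟨h, x.2⟩, fun h => h.1⟩
    have h4 : clen f.ker = clen U :=
      clen_congr ((MulEquiv.subgroupCongr h3).trans (Subgroup.subgroupOfEquivOfLe hle))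
    have h5 := clen_eq_add_quotient N
    omega
  by_cases hab : Comm N N
  · have hU0 : U = ⊥ := by
      rw [eq_bot_iff]
      intro x hx
      rw [Subgroup.mem_bot]
      exact hfaith x hx.2 fun y hy => hab x hx.1 y hy
    rw [hU0, Subgroup.card_bot, mul_one] at hcardN
    rw [hU0, clen_eq_zero (G := ↥(⊥ : Subgroup G)), add_zero] at hlen
    obtain ⟨p, hp, hpd⟩ := Nat.exists_prime_and_dvd (n := Nat.card N) (by omega)
    have : Fact p.Prime := ⟨hp⟩
    obtain ⟨x, hx⟩ := exists_prime_orderOf_dvd_card' p hpd
    let E : Subgroup G :=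
      { carrier := {y | y ∈ N ∧ y ^ p = 1}
        one_mem' := ⟨N.one_mem, one_pow p⟩
        mul_mem' := fun {y z} hy hz => ⟨N.mul_mem hy.1 hz.1, by
          rw [(show Commute y z from hab y hy.1 z hz.1).mul_pow, hy.2, hz.2, one_mul]⟩
        inv_mem' := fun {y} hy => ⟨N.inv_mem hy.1, by rw [inv_pow, hy.2, inv_one]⟩ }
    have hEn : E.Normal := ⟨fun y hy g => ⟨hNn.conj_mem y hy.1 g, by rw [conj_pow, hy.2]; simp⟩⟩
    have hE : E = N := hmin E hEn (fun y hy => hy.1) fun e => by
      have hxE : (x : G) ∈ E := ⟨x.2, by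
        rw [← Subgroup.coe_pow, ← hx, pow_orderOf_eq_one, Subgroup.coe_one]⟩
      rw [e, Subgroup.mem_bot] at hxE
      rw [show x = 1 from Subtype.ext hxE, orderOf_one] at hx
      exact hp.one_lt.ne hx
    have hpg : IsPGroup p N := fun y => ⟨1, by
      rw [pow_one]
      have hyE : (y : G) ∈ E := hE.symm ▸ y.2
      exact Subtype.ext (by simpa using hyE.2)⟩
    obtain ⟨k, hk⟩ := IsPGroup.iff_card.mp hpg
    have hclenN : clen N ≤ k := by
      have := clen_le_cardFactors (G := N)
      rwa [hk, cardFactors_apply_prime_pow hp] at this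
    rcases Nat.lt_or_ge k 2 with hk2 | hk2
    · omega
    obtain ⟨S, hS, hSc⟩ := exists_generators _ N hk
    rw [cardFactors_apply_prime_pow hp] at hSc
    have hSN : ∀ s ∈ S, s ∈ N := fun s hs => hS ▸ Subgroup.subset_closure hs
    have hHcard : Nat.card H ≤ Nat.card N ^ k := by
      let F : H → (↥S → N) := fun h s =>
        ⟨(h : G) * s.1 * (h : G)⁻¹, hNn.conj_mem _ (hSN _ s.2) _⟩
      have hF : Function.Injective F := by
        intro h h' e
        have key : (h : G)⁻¹ * h' = 1 := by
          refine hfaith _ (H.mul_mem (H.inv_mem h.2) h'.2) fun z hz => ?_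
          have hcl : Subgroup.closure (S : Set G) ≤
              Subgroup.centralizer ({(h : G)⁻¹ * h'} : Set G) := by
            rw [Subgroup.closure_le]
            intro s hs
            rw [SetLike.mem_coe, Subgroup.mem_centralizer_iff]
            intro w hw
            rw [Set.mem_singleton_iff] at hw
            rw [hw]
            have := congrArg Subtype.val (congrFun e ⟨s, hs⟩)
            simp only [F] at this
            calc (h : G)⁻¹ * h' * s = (h : G)⁻¹ * ((h' : G) * s * (h' : G)⁻¹) * h' := by
                  simp [mul_assoc]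
              _ = (h : G)⁻¹ * ((h : G) * s * (h : G)⁻¹) * h' := by rw [this]
              _ = s * ((h : G)⁻¹ * h') := by simp [mul_assoc]
          rw [hS] at hcl
          exact Subgroup.mem_centralizer_iff.mp (hcl hz) _ rfl
        exact Subtype.ext (inv_mul_eq_one.mp key)
      refine (Nat.card_le_card_of_injective F hF).trans ?_
      rw [Nat.card_fun, Nat.card_eq_fintype_card (α := ↥S), Fintype.card_coe]
      exact Nat.pow_le_pow_right Nat.card_pos hSc
    have hperm : Nat.card H ∣ (Nat.card α - 1).factorial := by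
      obtain ⟨f, hf⟩ := smallStab_apply H ((N : Set G) \ {1})
        (fun h hh x hx => ⟨hNn.conj_mem x hx.1 h, fun e => hx.2 (by
          rw [Set.mem_singleton_iff] at e ⊢
          simpa using e)⟩)
      have hfi : Function.Injective f := by
        rw [injective_iff_map_eq_one]
        intro h e
        refine Subtype.ext (hfaith h h.2 fun y hy => ?_)
        rcases eq_or_ne y 1 with rfl | hy1
        · simp
        · have := hf h ⟨y, hy, hy1⟩
          rw [e] at this
          simp only [Equiv.Perm.coe_one, id_eq] at this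
          exact (eq_mul_inv_iff_mul_eq.mp this).symm
      have := Subgroup.card_dvd_of_injective f hfi
      rw [Nat.card_perm] at this
      refine this.trans (dvd_of_eq ?_)
      congr 1
      rw [Nat.card_coe_set_eq, Set.ncard_diff_singleton_of_mem N.one_mem]
      show Set.ncard (N : Set G) - 1 = _
      rw [← Nat.card_coe_set_eq]
      exact congrArg (· - 1) hcardN
    have h2c : 2 ^ clen H ≤ Nat.card H := two_pow_clen_le
    have hn_eq : Nat.card α = p ^ k := by omega
    by_cases hgen : 3 ≤ p ∨ 4 ≤ k
    · have hineq := abelian_ineq hp.two_le k hk2 hgen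
      have hlH : clen H ≤ k ^ 2 * (p - 1) := by
        refine (Nat.pow_le_pow_iff_right (le_refl 2)).mp (h2c.trans (hHcard.trans ?_))
        have hp2 : p ≤ 2 ^ (p - 1) := by
          have := Nat.lt_two_pow_self (n := p - 1)
          omega
        rw [hk]
        calc (p ^ k) ^ k = p ^ (k ^ 2) := by rw [← pow_mul, sq]
          _ ≤ (2 ^ (p - 1)) ^ (k ^ 2) := Nat.pow_le_pow_left hp2 _
          _ = 2 ^ (k ^ 2 * (p - 1)) := by rw [← pow_mul, Nat.mul_comm]
      rw [hn_eq]
      nlinarith
    · obtain rfl : p = 2 := by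
        have := hp.two_le
        omega
      have hk23 : k = 2 ∨ k = 3 := by omega
      have hΩ := clen_le_cardFactors (G := H)
      rcases hk23 with rfl | rfl
      · norm_num at hn_eq
        rw [hn_eq] at hperm ⊢
        have : Nat.card H ≤ 6 := Nat.le_of_dvd (by decide) hperm
        have h3 : clen H ≤ 2 := by
          by_contra hh
          have := Nat.pow_le_pow_right two_pos (by omega : 3 ≤ clen H)
          omega
        omega
      · norm_num at hn_eq hk
        rw [hn_eq] at hperm ⊢
        rw [hk] at hHcard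
        have := cardFactors_le_six (d := Nat.card H) hperm (by omega)
        omega
  · obtain ⟨X, hX, hXne⟩ := exists_factorSet hN0 hmin
    obtain ⟨T, hT⟩ := hXne
    have hTs := hX.isSimpleGroup hT
    have hTna : ∃ x y : T, x * y ≠ y * x := by
      by_contra hc
      push Not at hc
      refine hX.ne_bot T hT ((Subgroup.eq_bot_iff_forall T).mpr fun x hx => ?_)
      exact hX.center_eq_bot hmin hab hT hx fun y hy => congrArg Subtype.val (hc ⟨x, hx⟩ ⟨y, hy⟩)
    have ht := ten_le_card_of_nonabelian_simple T hTna
    set t := Nat.card T with ht_def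
    set k := X.card with hk_def
    have hk1 : 1 ≤ k := Finset.card_pos.mpr ⟨T, hT⟩
    have hclen := hX.clen_card_sup hmin hab hT X Finset.Subset.rfl
    rw [hX.sup_eq] at hclen
    obtain ⟨hlN, hcN⟩ := hclen
    have hUN : U ≤ N := inf_le_left
    have hmapU : ∀ h ∈ H, U.map (MulAut.conj h).toMonoidHom = U := fun h hh =>
      (((conjInv_of_normal ⊤ N).mono le_top).inf (conjInv_self H)).map_conj_eq hh
    have htransX : ∀ A ∈ X, ∀ B ∈ X, ∃ h ∈ H, A.map (MulAut.conj h).toMonoidHom = B := by
      intro A hA B hB
      obtain ⟨g, hg⟩ := hX.trans A hA B hB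
      obtain ⟨x, hx⟩ := htr.exists_smul_eq a (g⁻¹ • a)
      refine ⟨g * x, ?_, ?_⟩
      · rw [hH, MulAction.mem_stabilizer_iff, mul_smul]
        show g • ((x : N) • a) = a
        rw [hx, smul_inv_smul]
      · rw [map_conj_mul, (hX.inv A hA).map_conj_eq x.2, hg]
    by_cases hcaseA : ∀ A ∈ X, A ⊓ U ≠ ⊥
    · have := hX.le_clen_of_inf_ne_bot hmin hab hUN hcaseA
      omega
    push Not at hcaseA
    obtain ⟨A₀, hA₀, hA₀U⟩ := hcaseA
    have hbot : ∀ A ∈ X, A ⊓ U = ⊥ := by
      intro A hA
      obtain ⟨h, hh, rfl⟩ := htransX A₀ hA₀ A hA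
      conv_lhs => rw [← hmapU h hh]
      rw [← Subgroup.map_inf _ _ _ (MulAut.conj h).injective, hA₀U, Subgroup.map_bot]
    have hsq : Nat.card U ^ 2 ≤ t ^ k := by
      by_cases hfull : ∃ A ∈ X, U ⊔ coFactor X A = N
      · obtain ⟨A₁, hA₁, hA₁U⟩ := hfull
        refine hX.card_sq_le hmin hab hUN (fun A hA => ?_) hbot hT
        obtain ⟨h, hh, rfl⟩ := htransX A₁ hA₁ A hA
        refine le_antisymm (sup_le hUN (hX.coFactor_le hA)) ?_
        have h1 := congrArg (Subgroup.map (MulAut.conj h).toMonoidHom) hA₁U
        rw [Subgroup.map_sup, hmapU h hh,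
          ((conjInv_of_normal ⊤ N).map_conj_eq (Subgroup.mem_top h))] at h1
        exact h1.symm.le.trans (sup_le_sup_left (hX.map_coFactor_le h A₁) U)
      · push Not at hfull
        let P : Subgroup G := N ⊓ X.inf fun A => U ⊔ coFactor X A
        have hPN : P ≤ N := inf_le_left
        have hPi : ConjInv H P := by
          intro h hh x hx
          refine ⟨hNn.conj_mem x hx.1 h, ?_⟩
          have hx2 : ∀ A ∈ X, x ∈ U ⊔ coFactor X A :=
            fun A hA => (Finset.inf_le (f := fun A => U ⊔ coFactor X A) hA) hx.2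
          have key : ∀ A ∈ X, h * x * h⁻¹ ∈ U ⊔ coFactor X A := by
            intro A hA
            obtain ⟨B, hB, rfl⟩ : ∃ B ∈ X, B.map (MulAut.conj h).toMonoidHom = A :=
              ⟨_, hX.conj_mem h⁻¹ A hA, by rw [← map_conj_mul, mul_inv_cancel, map_conj_one]⟩
            have h1 : (U ⊔ coFactor X B).map (MulAut.conj h).toMonoidHom ≤
                U ⊔ coFactor X (B.map (MulAut.conj h).toMonoidHom) := by
              rw [Subgroup.map_sup, hmapU h hh]
              exact sup_le_sup_left (hX.map_coFactor_le h B) U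
            exact h1 ⟨x, hx2 B hB, rfl⟩
          have : Subgroup.zpowers (h * x * h⁻¹) ≤ X.inf fun A => U ⊔ coFactor X A :=
            Finset.le_inf fun A hA => Subgroup.zpowers_le.mpr (key A hA)
          exact this (Subgroup.mem_zpowers _)
        have hUP : U ≤ P := le_inf hUN (Finset.le_inf fun A _ => le_sup_left)
        have hPU : P ≤ U := by
          have hco : IsCoatom H :=
            MulAction.IsPreprimitive.isCoatom_stabilizer_of_isPreprimitive (G := G) a
          rcases (le_sup_left : H ≤ H ⊔ P).eq_or_lt with he | hlt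
          · exact le_inf hPN ((le_sup_right : P ≤ H ⊔ P).trans he.ge)
          · exfalso
            have htop := hco.2 _ hlt
            have hnorm : H ≤ Subgroup.normalizer (P : Set G) := by
              intro h hh
              rw [Subgroup.mem_normalizer_iff]
              intro y
              refine ⟨fun hy => hPi h hh y hy, fun hy => ?_⟩
              have h2 := hPi h⁻¹ (H.inv_mem hh) _ hy
              simpa [mul_assoc] using h2
            refine hfull T hT (le_antisymm (sup_le hUN (hX.coFactor_le hT)) fun y hy => ?_)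
            have hy' : y ∈ ((H ⊔ P : Subgroup G) : Set G) := htop ▸ Subgroup.mem_top y
            rw [Subgroup.coe_mul_of_left_le_normalizer_right H P hnorm, Set.mem_mul] at hy'
            obtain ⟨h', hh', z, hz, rfl⟩ := hy'
            have hh'U : h' ∈ P := hUP ⟨by
              simpa using N.mul_mem hy (N.inv_mem (hPN hz)), hh'⟩
            exact (Finset.inf_le (f := fun A => U ⊔ coFactor X A) hT) (P.mul_mem hh'U hz).2
        have hU0 : U = ⊥ := by
          rw [Subgroup.eq_bot_iff_forall]
          intro x hx
          have hxA : ∀ A ∈ X, x ∈ coFactor X A := by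
            intro A hA
            have hxs : x ∈ A ⊔ coFactor X A := (hX.sup_coFactor hA).symm ▸ hUN hx
            have hc : Comm A (coFactor X A) :=
              hX.comm_sup hA (Finset.erase_subset A X) (Finset.notMem_erase A X)
            obtain ⟨⟨y, z⟩, hyz⟩ :=
              (prodEquiv hc (hX.inf_coFactor hmin hab hA)).surjective ⟨x, hxs⟩
            have hxyz : (y : G) * (z : G) = x :=
              (prodEquiv_coe hc _ y z).symm.trans (congrArg Subtype.val hyz)
            have hyP : (y : G) ∈ P := by
              refine ⟨hX.le A hA y.2, ?_⟩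
              have : Subgroup.zpowers (y : G) ≤ X.inf fun B => U ⊔ coFactor X B := by
                refine Finset.le_inf fun B hB => Subgroup.zpowers_le.mpr ?_
                rcases eq_or_ne A B with rfl | hne
                · rw [eq_mul_inv_of_mul_eq hxyz]
                  exact Subgroup.mul_mem _ (Subgroup.mem_sup_left hx)
                    (Subgroup.mem_sup_right (Subgroup.inv_mem _ z.2))
                · exact Subgroup.mem_sup_right (le_coFactor hA hne y.2)
              exact this (Subgroup.mem_zpowers _)
            have hy1 : (y : G) ∈ A ⊓ U := ⟨y.2, hPU hyP⟩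
            rw [hbot A hA, Subgroup.mem_bot] at hy1
            rw [← hxyz, hy1, one_mul]
            exact z.2
          refine hfaith x hx.2 fun y hy => ?_
          have hle : X.sup id ≤ Subgroup.centralizer ({x} : Set G) := by
            refine Finset.sup_le fun A hA b hb => ?_
            rw [Subgroup.mem_centralizer_iff]
            intro w hw
            rw [Set.mem_singleton_iff] at hw
            rw [hw]
            exact (hX.comm_sup hA (Finset.erase_subset A X) (Finset.notMem_erase A X)
              b hb x (hxA A hA)).symm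
          rw [hX.sup_eq] at hle
          exact Subgroup.mem_centralizer_iff.mp (hle hy) x rfl
        rw [hU0, Subgroup.card_bot]
        simpa using Nat.one_le_pow k t (by omega)
    by_cases heasy : k ≤ 1 ∨ (k = 2 ∧ U ≠ ⊥)
    · rcases heasy with h | ⟨h, hne⟩
      · omega
      · have : Nontrivial U := U.nontrivial_iff_ne_bot.mpr hne
        have := one_le_clen (G := U)
        omega
    have hnkt : k * t + 1 ≤ Nat.card α := by
      rcases Nat.lt_or_ge k 3 with h3 | h3
      · have hk2 : k = 2 := by omega
        have hU0 : U = ⊥ := by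
          by_contra h
          exact heasy (Or.inr ⟨hk2, h⟩)
        rw [hU0, Subgroup.card_bot, mul_one, hcN, ← hk_def, hk2] at hcardN
        rw [hk2, ← hcardN]
        nlinarith
      · have h1 := simple_power_ineq ht k h3
        rw [hcardN] at hcN
        have h2 : Nat.card U ≤ Nat.card α := by
          have hpos : 0 < Nat.card U := Nat.card_pos
          by_contra hh
          have : Nat.card α * Nat.card U < Nat.card U * Nat.card U :=
            Nat.mul_lt_mul_of_pos_right (by omega) hpos
          have h5 : Nat.card U * Nat.card U ≤ Nat.card α * Nat.card U := by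
            rw [← sq]
            exact hsq.trans hcN.symm.le
          omega
        have h4 : (k * t + 1) ^ 2 ≤ Nat.card α ^ 2 := by
          refine h1.trans (hcN.symm.le.trans ?_)
          rw [sq]
          exact Nat.mul_le_mul_left _ h2
        exact (Nat.pow_le_pow_iff_left (by norm_num)).mp h4
    let _ : Fintype G := Fintype.ofFinite G
    let S : Finset G := X.biUnion fun A => (Finset.univ.filter fun x => x ∈ A).erase 1
    have hScard : S.card ≤ k * (t - 1) := by
      refine Finset.card_biUnion_le_card_mul _ _ _ fun A hA => le_of_eq ?_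
      rw [Finset.card_erase_of_mem (by simp), ← Fintype.card_subtype, ← Nat.card_eq_fintype_card]
      exact congrArg (· - 1) (hX.card_eq hA hT)
    obtain ⟨f, hf⟩ := smallStab_apply H (S : Set G) (fun h hh x hx => by
      simp only [S, Finset.coe_biUnion, Set.mem_iUnion, Finset.mem_coe, Finset.mem_erase,
        Finset.mem_filter, Finset.mem_univ, true_and, exists_prop] at hx ⊢
      obtain ⟨A, hA, hx1, hxA⟩ := hx
      exact ⟨_, hX.conj_mem h A hA, fun e => hx1 (by simpa using e), ⟨x, hxA, rfl⟩⟩)
    have hfi : Function.Injective f := by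
      rw [injective_iff_map_eq_one]
      intro h e
      refine Subtype.ext (hfaith h h.2 fun y hy => ?_)
      have hle : X.sup id ≤ Subgroup.centralizer ({(h : G)} : Set G) := by
        refine Finset.sup_le fun A hA b hb => ?_
        rw [Subgroup.mem_centralizer_iff]
        intro w hw
        rw [Set.mem_singleton_iff] at hw
        rw [hw]
        rcases eq_or_ne b 1 with rfl | hb1
        · simp
        · have hbS : b ∈ (S : Set G) := by
            simp only [S, Finset.coe_biUnion, Set.mem_iUnion, Finset.mem_coe, Finset.mem_erase,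
              Finset.mem_filter, Finset.mem_univ, true_and, exists_prop]
            exact ⟨A, hA, hb1, hb⟩
          have := hf h ⟨b, hbS⟩
          rw [e] at this
          simp only [Equiv.Perm.coe_one, id_eq] at this
          exact (eq_mul_inv_iff_mul_eq.mp this).symm
      rw [hX.sup_eq] at hle
      exact Subgroup.mem_centralizer_iff.mp (hle hy) h rfl
    have hS' : Nat.card (S : Set G) = S.card := by
      rw [Nat.card_coe_set_eq, Set.ncard_coe_finset]
    have hktle : k * (t - 1) + k = k * t := by
      rw [← Nat.mul_succ, Nat.succ_eq_add_one]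
      congr 1
      omega
    have := hsmall (S : Set G) f hfi (by omega)
    omega

end Cfsg.Agent.CompLen
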